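import Groth.Agent.FFLib.Numer
import Mathlib.RingTheory.PowerSeries.Derivative
import Mathlib.RingTheory.PowerSeries.Inverse
import Mathlib.RingTheory.PowerSeries.Trunc
import Mathlib.Analysis.Complex.Polynomial.Basic
import Mathlib.NumberTheory.Divisors

/-! Places of given degree and the reciprocal roots of the numerator of the zeta series. -/

set_option linter.unusedSectionVars false
set_option linter.style.haveILetI false

namespace Groth.Agent.FFLib

open FunFld WithZero

variable {k K : Type*} [Field k] [Field K] [Algebra k K]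

variable (k K) in
/-- `∑_{d ∣ n} d·B_d`, `B_d` the number of places of degree `d`. -/
noncomputable def placeCount (n : ℕ) : ℕ :=
  ∑ d ∈ n.divisors, d * Nat.card {P : Place k K // P.deg = d}

/-- The logarithmic derivative of the zeta series, by counting. -/
theorem mul_effDivCount [Finite k] (hF : IsFF k K) (n : ℕ) :
    n * effDivCount k K n = ∑ m ∈ Finset.Icc 1 n, placeCount k K m * effDivCount k K (n - m) := by
  classical
  haveI : ∀ m : ℕ, Finite {D : Divisor k K // 0 ≤ D ∧ D.deg = m} := fun m => finite_effective hF m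
  haveI : ∀ m : ℕ, Fintype {D : Divisor k K // 0 ≤ D ∧ D.deg = m} := fun m => Fintype.ofFinite _
  set Pl := (finite_deg_le (k := k) hF n).toFinset
  have hPl : ∀ P, P ∈ Pl ↔ P.deg ≤ n := fun P => Set.Finite.mem_toFinset _
  -- translation
  have hshift : ∀ (P : Place k K) (j : ℕ), 1 ≤ j →
      (Finset.univ.filter fun D : {D : Divisor k K // 0 ≤ D ∧ D.deg = n} => (j : ℤ) ≤ D.1 P).card =
        if j * P.deg ≤ n then effDivCount k K (n - j * P.deg) else 0 := by
    intro P j hj
    split_ifs with h
    · rw [← Fintype.card_subtype, ← Nat.card_eq_fintype_card, effDivCount]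
      refine Nat.card_congr
        { toFun := fun D => ⟨D.1.1 - Finsupp.single P (j : ℤ), fun R => ?_, ?_⟩
          invFun := fun E => ⟨⟨E.1 + Finsupp.single P (j : ℤ), fun R => ?_, ?_⟩, ?_⟩
          left_inv := fun D => Subtype.ext (Subtype.ext (sub_add_cancel _ _))
          right_inv := fun E => Subtype.ext (add_sub_cancel_right _ _) }
      · have h1 : (0 : ℤ) ≤ D.1.1 R := D.1.2.1 R
        rcases eq_or_ne R P with rfl | hne
        · have := D.2; simp only [Finsupp.coe_zero, Pi.zero_apply, Finsupp.sub_apply, Finsupp.single_eq_same]; omega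
        · simpa [Finsupp.single_eq_of_ne hne] using h1
      · rw [Divisor.deg_sub, Divisor.deg_single, D.1.2.2]; push_cast [h]; ring
      · have h1 : (0 : ℤ) ≤ E.1 R := E.2.1 R
        simp only [Finsupp.coe_zero, Pi.zero_apply, Finsupp.add_apply, Finsupp.single_apply]
        split_ifs <;> omega
      · rw [Divisor.deg_add, Divisor.deg_single, E.2.2]; push_cast [h]; ring
      · show (j : ℤ) ≤ (E.1 + Finsupp.single P (j : ℤ)) P
        have h1 : (0 : ℤ) ≤ E.1 P := E.2.1 P
        simp only [Finsupp.add_apply, Finsupp.single_eq_same]; omega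
    · rw [Finset.card_eq_zero, Finset.filter_eq_empty_iff]
      intro D _ hD
      refine h ?_
      have hle : Finsupp.single P (j : ℤ) ≤ D.1 := fun R => by
        rcases eq_or_ne R P with rfl | hR
        · simpa using hD
        · simpa [hR] using D.2.1 R
      have := Divisor.deg_mono hle
      rw [Divisor.deg_single, D.2.2] at this
      exact_mod_cast this
  have hbound : ∀ (D : {D : Divisor k K // 0 ≤ D ∧ D.deg = n}) (P : Place k K),
      (D.1 P).toNat ≤ n := fun D P => by
    have h := (le_deg_of_effective hF D.2.1 P).1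
    rw [D.2.2] at h
    omega
  have hdeg : ∀ D : {D : Divisor k K // 0 ≤ D ∧ D.deg = n}, ∑ P ∈ Pl, (D.1 P).toNat * P.deg = n := fun D => by
    have hsub : D.1.support ⊆ Pl := fun P hP => by
      have h := (le_deg_of_effective hF D.2.1 P).2 (Finsupp.mem_support_iff.mp hP)
      rw [D.2.2] at h
      exact (hPl P).mpr (by exact_mod_cast h)
    have h := D.2.2
    rw [Divisor.deg, Finsupp.sum_of_support_subset _ hsub _ (by simp)] at h
    have h' : ((∑ P ∈ Pl, (D.1 P).toNat * P.deg : ℕ) : ℤ) = n := by
      refine Eq.trans ?_ h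
      rw [Nat.cast_sum]
      refine Finset.sum_congr rfl fun P _ => ?_
      rw [Nat.cast_mul, Int.toNat_of_nonneg (D.2.1 P)]
    exact_mod_cast h'
  have h1 : n * effDivCount k K n =
      ∑ P ∈ Pl, ∑ j ∈ Finset.Icc 1 n, if j * P.deg ≤ n then P.deg * effDivCount k K (n - j * P.deg) else 0 := by
    calc n * effDivCount k K n = ∑ D : {D : Divisor k K // 0 ≤ D ∧ D.deg = n}, ∑ P ∈ Pl, (D.1 P).toNat * P.deg := by
          simp only [hdeg, Finset.sum_const, Finset.card_univ, smul_eq_mul, effDivCount, ← Nat.card_eq_fintype_card]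
          ring
      _ = ∑ P ∈ Pl, ∑ j ∈ Finset.Icc 1 n, ∑ D : {D : Divisor k K // 0 ≤ D ∧ D.deg = n},
            if (j : ℤ) ≤ D.1 P then P.deg else 0 := by
          rw [Finset.sum_comm]
          refine Finset.sum_congr rfl fun P _ => ?_
          rw [Finset.sum_comm]
          refine Finset.sum_congr rfl fun D _ => ?_
          rw [Finset.sum_ite, Finset.sum_const_zero, add_zero, Finset.sum_const, smul_eq_mul]
          congr 1
          rw [show (Finset.Icc 1 n).filter (fun j : ℕ => (j : ℤ) ≤ D.1 P) = Finset.Icc 1 (D.1 P).toNat by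
            ext j
            have := hbound D P
            simp only [Finset.mem_filter, Finset.mem_Icc]; omega, Nat.card_Icc, Nat.add_sub_cancel]
      _ = _ := by
          refine Finset.sum_congr rfl fun P _ => Finset.sum_congr rfl fun j hj => ?_
          rw [Finset.sum_ite, Finset.sum_const_zero, add_zero, Finset.sum_const, smul_eq_mul,
            hshift P j (Finset.mem_Icc.mp hj).1]
          split_ifs <;> ring
  rw [h1]
  have hinner : ∀ P ∈ Pl, ∑ j ∈ Finset.Icc 1 n, (if j * P.deg ≤ n then P.deg * effDivCount k K (n - j * P.deg) else 0) =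
      ∑ m ∈ Finset.Icc 1 n, if P.deg ∣ m then P.deg * effDivCount k K (n - m) else 0 := by
    intro P _
    have hd := deg_pos hF P
    rw [← Finset.sum_filter, ← Finset.sum_filter]
    refine Finset.sum_bij' (fun j _ => j * P.deg) (fun m _ => m / P.deg) ?_ ?_ ?_ ?_ ?_
    · intro j hj
      simp only [Finset.mem_filter, Finset.mem_Icc] at hj ⊢
      exact ⟨⟨Nat.le_mul_of_pos_right _ hd |>.trans' hj.1.1, hj.2⟩, dvd_mul_left _ _⟩
    · intro m hm
      simp only [Finset.mem_filter, Finset.mem_Icc] at hm ⊢
      obtain ⟨⟨hm1, hm2⟩, c, rfl⟩ := hm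
      rw [Nat.mul_div_cancel_left c hd]
      refine ⟨⟨?_, (Nat.le_mul_of_pos_left c hd).trans hm2⟩, by rwa [mul_comm]⟩
      rcases Nat.eq_zero_or_pos c with rfl | h
      · simp at hm1
      · exact h
    · intro j _; exact Nat.mul_div_cancel j hd
    · intro m hm
      exact Nat.div_mul_cancel (Finset.mem_filter.mp hm).2
    · intro j _; rfl
  rw [Finset.sum_congr rfl hinner, Finset.sum_comm]
  refine Finset.sum_congr rfl fun m hm => ?_
  rw [Finset.mem_Icc] at hm
  rw [← Finset.sum_filter, ← Finset.sum_mul]
  congr 1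
  unfold placeCount
  rw [← Finset.sum_fiberwise_of_maps_to (t := m.divisors) (g := fun P : Place k K => P.deg) (fun P hP =>
    Nat.mem_divisors.mpr ⟨(Finset.mem_filter.mp hP).2, by omega⟩)]
  refine Finset.sum_congr rfl fun d hd => ?_
  have hdm := Nat.mem_divisors.mp hd
  have hdn : d ≤ n := (Nat.le_of_dvd (by omega) hdm.1).trans hm.2
  rw [Finset.sum_congr rfl (fun P hP => (Finset.mem_filter.mp hP).2), Finset.sum_const, smul_eq_mul, mul_comm]
  congr 1
  rw [← Nat.card_eq_finsetCard]
  refine Nat.card_congr (Equiv.subtypeEquivRight fun P => ?_)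
  simp only [Finset.mem_filter, hPl]
  exact ⟨fun h => h.2, fun h => ⟨⟨h ▸ hdn, h ▸ hdm.1⟩, h⟩⟩

section Theta

variable {R : Type*} [CommRing R]

/-- `a X + a² X² + ⋯` -/
noncomputable def geomSer (a : R) : PowerSeries R := PowerSeries.mk fun n => if n = 0 then 0 else a ^ n

theorem geomSer_mul (a : R) : geomSer a * (1 - PowerSeries.C a * PowerSeries.X) = PowerSeries.C a * PowerSeries.X := by
  ext n
  rw [mul_sub, mul_one, map_sub, show geomSer a * (PowerSeries.C a * PowerSeries.X) = PowerSeries.C a * (geomSer a * PowerSeries.X) by ring,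
    PowerSeries.coeff_C_mul, PowerSeries.coeff_C_mul]
  rcases n with _ | _ | n
  · simp [geomSer]
  · simp [geomSer]
  · rw [PowerSeries.coeff_succ_mul_X, geomSer, PowerSeries.coeff_mk, PowerSeries.coeff_mk, PowerSeries.coeff_X, if_neg (by omega),
      if_neg (by omega), if_neg (by omega), pow_succ']
    ring

/-- `X · d/dX` -/
noncomputable def theta (f : PowerSeries R) : PowerSeries R := PowerSeries.X * PowerSeries.derivative R f

theorem coeff_theta (f : PowerSeries R) (n : ℕ) : PowerSeries.coeff n (theta f) = n * PowerSeries.coeff n f := by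
  rcases n with _ | n
  · simp [theta]
  · rw [theta, PowerSeries.coeff_succ_X_mul, PowerSeries.coeff_derivative]; push_cast; ring

theorem theta_mul (f g : PowerSeries R) : theta (f * g) = theta f * g + f * theta g := by
  rw [theta, theta, theta, Derivation.leibniz, smul_eq_mul, smul_eq_mul]; ring

theorem theta_linear (a : R) : theta (1 - PowerSeries.C a * PowerSeries.X) = -geomSer a * (1 - PowerSeries.C a * PowerSeries.X) := by
  rw [neg_mul, geomSer_mul]
  ext n
  rw [coeff_theta, map_neg, map_sub, PowerSeries.coeff_C_mul, PowerSeries.coeff_one, PowerSeries.coeff_X]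
  rcases n with _ | _ | n <;> simp

theorem theta_prod {ι : Type*} (s : Finset ι) (a : ι → R) :
    theta (∏ i ∈ s, (1 - PowerSeries.C (a i) * PowerSeries.X)) =
      (-∑ i ∈ s, geomSer (a i)) * ∏ i ∈ s, (1 - PowerSeries.C (a i) * PowerSeries.X) := by
  classical
  induction s using Finset.induction_on with
  | empty => simp [theta]
  | insert b s hb ih =>
    rw [Finset.prod_insert hb, theta_mul, theta_linear, ih, Finset.sum_insert hb]
    ring

end Theta

theorem constantCoeff_numerZ (hF : IsFF k K) : PowerSeries.coeff 0 (numerZ k K) = 1 := by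
  have h : ((effDivCount k K 0 : ℕ) : ℤ) = 1 := by
    have h0 : Nat.card {D : Divisor k K // 0 ≤ D ∧ D.deg = ((0 : ℕ) : ℤ)} = 1 := Nat.card_eq_one_iff_exists.mpr
      ⟨⟨0, le_rfl, by simp⟩, fun E => Subtype.ext (deg_eq_of_le hF E.2.1 (by simp [E.2.2])).symm⟩
    rw [effDivCount, h0]; rfl
  rw [PowerSeries.coeff_zero_eq_constantCoeff_apply, numerZ, map_mul, map_mul]
  simp [zetaZ, h]

/-- Point counts in terms of the reciprocal roots. -/
theorem placeCount_eq [Finite k] (hF : IsFF k K) {ι : Type*} [Fintype ι] (α : ι → ℂ)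
    (hα : PowerSeries.map (Int.castRingHom ℂ) (numerZ k K) =
      ((∏ i, (1 - Polynomial.C (α i) * Polynomial.X) : Polynomial ℂ) : PowerSeries ℂ))
    {n : ℕ} (hn : 1 ≤ n) :
    (placeCount k K n : ℂ) = 1 + (Nat.card k : ℂ) ^ n - ∑ i, α i ^ n := by
  classical
  set q : ℂ := (Nat.card k : ℂ)
  set A := PowerSeries.map (Int.castRingHom ℂ) (zetaZ k K)
  set W : PowerSeries ℂ := PowerSeries.mk fun m => if m = 0 then 0 else (placeCount k K m : ℂ)
  have hW : theta A = W * A := by
    ext m
    rw [coeff_theta, PowerSeries.coeff_mul, PowerSeries.coeff_map, zetaZ, PowerSeries.coeff_mk]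
    have h := congrArg (Nat.cast : ℕ → ℂ) (mul_effDivCount (k := k) (K := K) hF m)
    push_cast at h
    rw [show (Int.castRingHom ℂ) (effDivCount k K m : ℤ) = (effDivCount k K m : ℂ) by simp, h,
      Finset.Nat.sum_antidiagonal_eq_sum_range_succ_mk]
    refine Finset.sum_subset_zero_on_sdiff (fun x hx => by simp only [Finset.mem_range, Finset.mem_Icc] at hx ⊢; omega)
      (fun x hx => ?_) (fun x hx => ?_)
    · simp only [Finset.mem_sdiff, Finset.mem_range, Finset.mem_Icc] at hx
      have : x = 0 := by omega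
      simp [W, this]
    · rw [Finset.mem_Icc] at hx
      simp only [A, W, PowerSeries.coeff_mk, PowerSeries.coeff_map, zetaZ, if_neg (show x ≠ 0 by omega)]
      simp
  set L := PowerSeries.map (Int.castRingHom ℂ) (numerZ k K) with hLdef
  have hL : L = (1 - PowerSeries.C (1 : ℂ) * PowerSeries.X) * (1 - PowerSeries.C q * PowerSeries.X) * A := by
    simp [L, numerZ, A, q]
  have h1 : theta L = (W - geomSer 1 - geomSer q) * L := by
    rw [hL, theta_mul, theta_mul, theta_linear, theta_linear, hW]; ring
  have hprod : L = ∏ i, (1 - PowerSeries.C (α i) * PowerSeries.X) := by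
    rw [hα, ← Polynomial.coeToPowerSeries.ringHom_apply, map_prod]
    refine Finset.prod_congr rfl fun i _ => ?_
    simp
  have h2 : theta L = (-∑ i, geomSer (α i)) * L := by rw [hprod, theta_prod]
  have hunit : IsUnit L := by
    rw [PowerSeries.isUnit_iff_constantCoeff, ← PowerSeries.coeff_zero_eq_constantCoeff_apply]
    simp only [L, PowerSeries.coeff_map, constantCoeff_numerZ hF, map_one, isUnit_one]
  have h3 := congrArg (PowerSeries.coeff n) (hunit.mul_right_cancel (h1.symm.trans h2))
  simp only [map_sub, map_neg, map_sum, W, geomSer, PowerSeries.coeff_mk, if_neg (show n ≠ 0 by omega), one_pow] at h3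
  linear_combination h3

end Groth.Agent.FFLib
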