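import Groth.Agent.FFLib.Weil.GaloisCount
import Groth.Agent.FFLib.Local.Hasse
import Mathlib.FieldTheory.Normal.Closure
import Mathlib.FieldTheory.Galois.Basic
import Mathlib.Topology.Sequences

/-! The Riemann hypothesis for function fields over finite fields. -/

set_option linter.unusedSectionVars false
set_option linter.style.haveILetI false

namespace Groth.Agent.FFLib

open FunFld WithZero IntermediateField Filter Topology

theorem exists_recurrent {ι : Type*} [Fintype ι] (u : ι → ℂ) (hu : ∀ i, ‖u i‖ ≤ 1) (m₀ : ℕ) :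
    ∃ n, m₀ ≤ n ∧ ∀ i, ‖u i‖ = 1 → ‖u i ^ n - 1‖ ≤ 1 / 2 := by
  classical
  have hcpt : IsCompact (Metric.closedBall (0 : ι → ℂ) 1) := isCompact_closedBall _ _
  obtain ⟨a, -, φ, hφ, hlim⟩ := hcpt.tendsto_subseq (x := fun n : ℕ => fun i => u i ^ n) fun n => by
    rw [mem_closedBall_zero_iff, pi_norm_le_iff_of_nonneg zero_le_one]
    exact fun i => by rw [norm_pow]; exact pow_le_one₀ (norm_nonneg _) (hu i)
  obtain ⟨N, hN⟩ := Metric.tendsto_atTop.mp hlim (1 / 4) (by norm_num)
  refine ⟨φ (N + φ N + m₀) - φ N, ?_, fun i hi => ?_⟩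
  · have := hφ.id_le (N + φ N + m₀)
    simp only [id_eq] at this; omega
  · have hle : φ N ≤ φ (N + φ N + m₀) := hφ.monotone (by omega)
    have h1 := (dist_pi_le_iff (by norm_num : (0 : ℝ) ≤ 1 / 4)).mp (hN N le_rfl).le i
    have h2 := (dist_pi_le_iff (by norm_num : (0 : ℝ) ≤ 1 / 4)).mp (hN (N + φ N + m₀) (by omega)).le i
    have h3 := (dist_triangle_right _ _ (a i)).trans (add_le_add h2 h1)
    simp only [Function.comp_apply, dist_eq_norm] at h3
    rw [← Nat.sub_add_cancel hle, pow_add, ← sub_one_mul, norm_mul, norm_pow (u i) (φ N), hi, one_pow, mul_one] at h3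
    exact h3.trans (by norm_num)

/-- Bounded above real parts of power sums force all numbers into the unit disc. -/
theorem norm_le_one_of_powerSum {ι : Type*} [Fintype ι] (β : ι → ℂ) {C : ℝ} {m₀ : ℕ}
    (h : ∀ m, m₀ ≤ m → (∑ i, β i ^ m).re ≤ C) (i : ι) : ‖β i‖ ≤ 1 := by
  classical
  by_contra hlt
  obtain ⟨i₀, -, hmax⟩ := Finset.exists_max_image Finset.univ (fun i => ‖β i‖) ⟨i, Finset.mem_univ i⟩
  set R := ‖β i₀‖
  have hR : 1 < R := (not_le.mp hlt).trans_le (hmax i (Finset.mem_univ i))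
  set u : ι → ℂ := fun i => β i / (R : ℂ)
  have hu : ∀ i, ‖u i‖ = ‖β i‖ / R := fun i => by
    rw [norm_div, Complex.norm_real, Real.norm_eq_abs, abs_of_pos (by linarith)]
  have hu1 : ∀ i, ‖u i‖ ≤ 1 := fun i => by
    rw [hu, div_le_one (by linarith)]; exact hmax i (Finset.mem_univ i)
  set small := Finset.univ.filter fun i => ‖u i‖ < 1
  have hts : Tendsto (fun n : ℕ => ∑ i ∈ small, ‖u i‖ ^ n) atTop (𝓝 0) := by
    have := tendsto_finsetSum small (f := fun i n => ‖u i‖ ^ n) (a := fun _ => 0) fun i hi =>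
      tendsto_pow_atTop_nhds_zero_of_lt_one (norm_nonneg _) (Finset.mem_filter.mp hi).2
    simpa using this
  obtain ⟨M₁, hM₁⟩ := Metric.tendsto_atTop.mp hts (1 / 4) (by norm_num)
  obtain ⟨M₂, hM₂⟩ := pow_unbounded_of_one_lt (4 * |C|) hR
  obtain ⟨n, hn, hrec⟩ := exists_recurrent u hu1 (m₀ + M₁ + M₂)
  have hsum : (∑ i, β i ^ n).re = R ^ n * (∑ i, u i ^ n).re := by
    rw [show (∑ i, β i ^ n) = ((R ^ n : ℝ) : ℂ) * ∑ i, u i ^ n by
      rw [Finset.mul_sum]
      refine Finset.sum_congr rfl fun j _ => ?_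
      have : (R : ℂ) ≠ 0 := Complex.ofReal_ne_zero.mpr (by linarith)
      simp only [u, div_pow]; push_cast; field_simp,
      Complex.re_ofReal_mul]
  have hsmall : |(∑ i ∈ small, u i ^ n).re| < 1 / 4 := by
    refine (Complex.abs_re_le_norm _).trans_lt ((norm_sum_le _ _).trans_lt ?_)
    have := hM₁ n (by omega)
    rw [Real.dist_eq, sub_zero] at this
    simpa [norm_pow] using (le_abs_self _).trans_lt this
  set large := Finset.univ.filter fun i => ¬ ‖u i‖ < 1
  have hlarge : (1 : ℝ) / 2 ≤ (∑ i ∈ large, u i ^ n).re := by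
    have hterm : ∀ i ∈ large, (1 : ℝ) / 2 ≤ (u i ^ n).re := fun i hi => by
      have h1 : ‖u i‖ = 1 := le_antisymm (hu1 i) (not_lt.mp (Finset.mem_filter.mp hi).2)
      have h2 := (Complex.abs_re_le_norm _).trans (hrec i h1)
      rw [Complex.sub_re, Complex.one_re, abs_le] at h2
      linarith
    have hmem : i₀ ∈ large := Finset.mem_filter.mpr ⟨Finset.mem_univ _, by rw [hu, div_self (by linarith)]; exact lt_irrefl 1⟩
    rw [Complex.re_sum]
    refine le_trans (hterm i₀ hmem) (Finset.single_le_sum (f := fun j => (u j ^ n).re) (fun j hj => ?_) hmem)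
    linarith [hterm j hj]
  have htot : (∑ i, u i ^ n).re = (∑ i ∈ small, u i ^ n).re + (∑ i ∈ large, u i ^ n).re := by
    rw [← Complex.add_re, Finset.sum_filter_add_sum_filter_not]
  have hC := h n (by omega)
  rw [hsum, htot] at hC
  have hRn : R ^ M₂ ≤ R ^ n := pow_le_pow_right₀ hR.le (by omega)
  nlinarith [(abs_lt.mp hsmall).1, le_abs_self C, abs_nonneg C]

universe u v
variable {k : Type u} {K : Type v} [Field k] [Field K] [Algebra k K]

theorem exists_lower_bound [Finite k] (hK : IsFunctionField k K) :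
    ∃ r g : ℕ, ∃ C : ℤ, 0 < r ∧ ∀ j : ℕ, (g + 1) ^ 2 < Nat.card k ^ j → r ∣ j →
      (Nat.card k : ℤ) ^ (2 * j) - C * (Nat.card k : ℤ) ^ j ≤ (placeCount k K (2 * j) : ℤ) := by
  classical
  obtain ⟨x, hx, hsep⟩ := exists_separating_element hK (isGeometric_of_perfect hK)
  haveI := hsep
  haveI := IsFF.finite_adjoin hK.1 hx
  let M := IntermediateField.normalClosure k⟮x⟯ K (AlgebraicClosure K)
  haveI : IsScalarTower k K M := IsScalarTower.of_algebraMap_eq fun c => Subtype.ext (by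
    show algebraMap k (AlgebraicClosure K) c = algebraMap K (AlgebraicClosure K) (algebraMap k K c)
    rw [← IsScalarTower.algebraMap_apply])
  haveI : Algebra.IsSeparable k⟮x⟯ M := by
    refine (le_separableClosure_iff k⟮x⟯ (AlgebraicClosure K) M).mp (normalClosure_le_iff.mpr fun f => ?_)
    rintro _ ⟨z, rfl⟩
    exact mem_separableClosure_iff.mpr (IsSeparable.map f f.injective (Algebra.IsSeparable.isSeparable k⟮x⟯ z))
  haveI : Algebra.IsAlgebraic k⟮x⟯ (AlgebraicClosure K) := Algebra.IsAlgebraic.trans k⟮x⟯ K (AlgebraicClosure K)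
  haveI : IsAlgClosure k⟮x⟯ (AlgebraicClosure K) := ⟨inferInstance, inferInstance⟩
  haveI : Normal k⟮x⟯ (AlgebraicClosure K) := IsAlgClosure.normal _ _
  haveI : IsGalois k⟮x⟯ M := ⟨⟩
  have hFE : IsFunctionField k k⟮x⟯ := by
    refine ⟨⟨IntermediateField.AdjoinSimple.gen k x, fun halg => hx (halg.algHom k⟮x⟯.val), ?_⟩, fun y hy => ?_⟩
    · have htop : k⟮IntermediateField.AdjoinSimple.gen k x⟯ = ⊤ := IntermediateField.map_injective k⟮x⟯.val (by
        rw [IntermediateField.adjoin_map, Set.image_singleton, ← AlgHom.fieldRange_eq_map, IntermediateField.fieldRange_val]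
        rfl)
      rw [htop]
      exact ⟨⟨{1}, eq_top_iff.mpr fun z _ => by
        rw [Finset.coe_singleton, Submodule.mem_span_singleton]
        exact ⟨⟨z, IntermediateField.mem_top⟩, mul_one _⟩⟩⟩
    · obtain ⟨c, hc⟩ := hK.2 y (hy.algHom k⟮x⟯.val)
      exact ⟨c, Subtype.ext hc⟩
  have hgen : k⟮IntermediateField.AdjoinSimple.gen k x⟯ = ⊤ := IntermediateField.map_injective k⟮x⟯.val (by
    rw [IntermediateField.adjoin_map, Set.image_singleton, ← AlgHom.fieldRange_eq_map, IntermediateField.fieldRange_val]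
    rfl)
  haveI : FiniteDimensional k⟮x⟯ M := inferInstance
  have hFM : IsFF k M := IsFF.ext (K' := M) hFE.1
  let k₁ := _root_.algebraicClosure k M
  haveI : FiniteDimensional k k₁ := by
    haveI := L_zero_finite hFM
    refine Submodule.finiteDimensional_of_le (S₁ := k₁.toSubalgebra.toSubmodule) (S₂ := L (0 : Divisor k M)) fun y hy P => ?_
    rcases eq_or_ne y 0 with rfl | hy0
    · simp
    by_contra hP
    refine transcendental_of_val_ne_one P hy0 (fun e => hP (by rw [e, Finsupp.zero_apply, exp_zero])) ?_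
    exact mem_algebraicClosure_iff.mp hy
  have hM : IsFunctionField k₁ M := by
    refine ⟨isFF_const (k := k) hFM, fun y hy => ⟨⟨y, mem_algebraicClosure_iff.mpr (hy.restrictScalars k)⟩, rfl⟩⟩
  obtain ⟨C, hC⟩ := galois_lower (K := K) (M := M) (k₁ := k₁) hFE hK hgen hM
  exact ⟨Module.finrank k k₁, genus k₁ M, C, Module.finrank_pos, hC⟩

/-- The Riemann hypothesis. -/
theorem norm_sq_root [Finite k] (hK : IsFunctionField k K) :
    ∃ α : Fin (2 * genus k K) → ℂ,
      PowerSeries.map (Int.castRingHom ℂ) (numerZ k K) =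
        ((∏ i, (1 - Polynomial.C (α i) * Polynomial.X) : Polynomial ℂ) : PowerSeries ℂ) ∧
      ∀ i, ‖α i‖ ^ 2 = (Nat.card k : ℝ) := by
  obtain ⟨α, -, hα, hpair⟩ := exists_reciprocal_roots hK
  obtain ⟨r, g, C, hr, hlow⟩ := exists_lower_bound hK
  set q := Nat.card k
  have hq2 : 2 ≤ q := Finite.one_lt_card
  have hqR : (0 : ℝ) < q := by exact_mod_cast (by omega : 0 < q)
  set β : Fin (2 * genus k K) → ℂ := fun i => α i ^ (2 * r) / ((q : ℂ) ^ r)
  have hβ : ∀ m, (g + 1) ^ 2 ≤ m → 1 ≤ m → (∑ i, β i ^ m).re ≤ (C : ℝ) + 1 := fun m hm hm1 => by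
    have hj : (g + 1) ^ 2 < q ^ (r * m) :=
      hm.trans_lt ((Nat.le_mul_of_pos_left m hr).trans_lt (Nat.lt_pow_self hq2))
    have h1 := hlow (r * m) hj (dvd_mul_right r m)
    have h2 := placeCount_eq hK.1 α hα (n := 2 * (r * m)) (by have := Nat.mul_pos hr hm1; omega)
    have h3 := congrArg Complex.re h2
    rw [Complex.natCast_re, Complex.sub_re, Complex.add_re, Complex.one_re, ← Nat.cast_pow, Complex.natCast_re,
      Nat.cast_pow] at h3
    have h1' : (q : ℝ) ^ (2 * (r * m)) - C * (q : ℝ) ^ (r * m) ≤ (placeCount k K (2 * (r * m)) : ℝ) := by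
      exact_mod_cast h1
    have h4 : (∑ i, β i ^ m).re = (∑ i, α i ^ (2 * (r * m))).re / (q : ℝ) ^ (r * m) := by
      rw [show (∑ i, β i ^ m) = (∑ i, α i ^ (2 * (r * m))) / ((((q : ℝ) ^ (r * m) : ℝ)) : ℂ) by
        rw [Finset.sum_div]
        refine Finset.sum_congr rfl fun i _ => ?_
        simp only [β, div_pow, ← pow_mul, mul_assoc]; push_cast; rfl]
      rw [Complex.div_ofReal_re]
    rw [h4, div_le_iff₀ (pow_pos hqR _)]
    have : (1 : ℝ) ≤ (q : ℝ) ^ (r * m) := one_le_pow₀ (by exact_mod_cast (by omega : 1 ≤ q))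
    linarith
  have hle : ∀ i, ‖α i‖ ^ 2 ≤ q := fun i => by
    have h1 := norm_le_one_of_powerSum β (m₀ := (g + 1) ^ 2 + 1) (fun m hm => hβ m (by omega) (by omega)) i
    rw [norm_div, norm_pow, norm_pow, Complex.norm_natCast, div_le_one (pow_pos hqR _), pow_mul] at h1
    exact le_of_pow_le_pow_left₀ hr.ne' hqR.le h1
  refine ⟨α, hα, fun i => le_antisymm (hle i) ?_⟩
  have h1 := congrArg norm (hpair i)
  rw [norm_mul, Complex.norm_natCast] at h1
  have h2 : ‖α i‖ ^ 2 * ‖α i.rev‖ ^ 2 = (q : ℝ) ^ 2 := by rw [← mul_pow, h1]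
  nlinarith [hle i.rev, sq_nonneg ‖α i‖]

end Groth.Agent.FFLib
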