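import Groth.Agent.FFLib.Degree
import Mathlib.FieldTheory.Finite.Basic
import Mathlib.Dynamics.PeriodicPts.Defs

/-! Frobenius congruences at places over a finite field. -/

set_option linter.unusedSectionVars false
set_option linter.style.haveILetI false

namespace Groth.Agent.FFLib

open FunFld WithZero

variable {k : Type*} [Field k] [Finite k]

section Field

variable {L : Type*} [Field L] [Algebra k L]

theorem exists_char_pow (k : Type*) [Field k] [Finite k] :
    ∃ p a : ℕ, p.Prime ∧ CharP k p ∧ 0 < a ∧ Nat.card k = p ^ a := by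
  haveI := Fintype.ofFinite k
  obtain ⟨p, hp, a, hprime, ha⟩ := FiniteField.card' k
  exact ⟨p, a, hprime, hp, a.pos, by rw [Nat.card_eq_fintype_card, ha]⟩

/-- `x ↦ x ^ (q ^ N)` as a ring homomorphism. -/
theorem exists_frobHom (k : Type*) [Field k] [Finite k] (L : Type*) [Field L] [Algebra k L] (N : ℕ) :
    ∃ φ : L →+* L, ∀ x, φ x = x ^ (Nat.card k ^ N) := by
  obtain ⟨p, a, hp, hchar, -, hq⟩ := exists_char_pow k
  haveI := Fact.mk hp
  haveI : CharP L p := charP_of_injective_algebraMap (algebraMap k L).injective p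
  haveI : ExpChar L p := ExpChar.prime hp
  exact ⟨iterateFrobenius L p (a * N), fun x => by rw [iterateFrobenius_def, hq, ← pow_mul]⟩

theorem add_pow_card (x y : L) (N : ℕ) :
    (x + y) ^ (Nat.card k ^ N) = x ^ (Nat.card k ^ N) + y ^ (Nat.card k ^ N) := by
  obtain ⟨φ, hφ⟩ := exists_frobHom k L N
  rw [← hφ, ← hφ, ← hφ, map_add]

theorem sub_pow_card (x y : L) (N : ℕ) :
    (x - y) ^ (Nat.card k ^ N) = x ^ (Nat.card k ^ N) - y ^ (Nat.card k ^ N) := by
  obtain ⟨φ, hφ⟩ := exists_frobHom k L N
  rw [← hφ, ← hφ, ← hφ, map_sub]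

theorem sum_pow_card {ι : Type*} (s : Finset ι) (f : ι → L) (N : ℕ) :
    (∑ i ∈ s, f i) ^ (Nat.card k ^ N) = ∑ i ∈ s, f i ^ (Nat.card k ^ N) := by
  obtain ⟨φ, hφ⟩ := exists_frobHom k L N
  simp only [← hφ, map_sum]

theorem const_pow_card (c : k) (N : ℕ) :
    (algebraMap k L c) ^ (Nat.card k ^ N) = algebraMap k L c := by
  haveI := Fintype.ofFinite k
  rw [← map_pow, Nat.card_eq_fintype_card, FiniteField.pow_card_pow]

/-- All elements are fixed by the `N`-th power of Frobenius iff the degree divides `N`. -/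
theorem forall_pow_card_iff [FiniteDimensional k L] (N : ℕ) :
    (∀ x : L, x ^ (Nat.card k ^ N) = x) ↔ Module.finrank k L ∣ N := by
  haveI : Finite L := Module.finite_of_finite k
  haveI := Fintype.ofFinite L
  set q := Nat.card k
  set d := Module.finrank k L
  have hd : 0 < d := Module.finrank_pos
  have hcard : Fintype.card L = q ^ d := by
    rw [← Nat.card_eq_fintype_card, Module.natCard_eq_pow_finrank (K := k)]
  constructor
  · intro h
    have hgcd : ∀ x : L, x ^ (q ^ Nat.gcd d N) = x := by
      intro x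
      have h1 : Function.IsPeriodicPt (fun y : L => y ^ q) d x := by
        show (fun y : L => y ^ q)^[d] x = x
        rw [pow_iterate, ← hcard]; exact FiniteField.pow_card x
      have h2 : Function.IsPeriodicPt (fun y : L => y ^ q) N x := by
        show (fun y : L => y ^ q)^[N] x = x
        rw [pow_iterate]; exact h x
      have := h1.gcd h2
      rwa [Function.IsPeriodicPt, Function.IsFixedPt, pow_iterate] at this
    have hq : 2 ≤ q := Finite.one_lt_card
    have hg : Nat.gcd d N ≠ 0 := Nat.gcd_ne_zero_left hd.ne'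
    have hle : Fintype.card L ≤ q ^ Nat.gcd d N := by
      classical
      have hne := FiniteField.X_pow_card_sub_X_ne_zero L (p := q ^ Nat.gcd d N) (Nat.one_lt_pow hg hq)
      have hsub : (Finset.univ : Finset L) ⊆
          (Polynomial.X ^ (q ^ Nat.gcd d N) - Polynomial.X : Polynomial L).roots.toFinset := fun x _ => by
        rw [Multiset.mem_toFinset, Polynomial.mem_roots hne]
        simp [Polynomial.IsRoot, hgcd x]
      refine (Finset.card_le_card hsub).trans ((Multiset.toFinset_card_le _).trans ?_)
      refine (Polynomial.card_roots' _).trans ?_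
      rw [FiniteField.X_pow_card_sub_X_natDegree_eq L (Nat.one_lt_pow hg hq)]
    rw [hcard, Nat.pow_le_pow_iff_right hq] at hle
    have : Nat.gcd d N = d := le_antisymm (Nat.le_of_dvd hd (Nat.gcd_dvd_left d N)) hle
    exact this ▸ Nat.gcd_dvd_right d N
  · rintro ⟨j, rfl⟩ x
    rw [pow_mul, ← hcard, FiniteField.pow_card_pow]

end Field

section Place

variable {K : Type*} [Field K] [Algebra k K]

theorem natCard_res (hF : IsFF k K) (P : Place k K) : Nat.card (Res P) = Nat.card k ^ P.deg := by
  haveI := residue_finite hF P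
  rw [Module.natCard_eq_pow_finrank (K := k)]; rfl

theorem residue_eq_iff (P : Place k K) (a b : P.O) :
    IsLocalRing.residue P.O a = IsLocalRing.residue P.O b ↔ P.1 ((a : K) - b) < 1 := by
  rw [← sub_eq_zero, ← map_sub, residue_eq_zero]; rfl

/-- `deg P ∣ N` iff the `q^N`-th power is congruent to the identity at `P`. -/
theorem deg_dvd_iff (hF : IsFF k K) (P : Place k K) (N : ℕ) :
    P.deg ∣ N ↔ ∀ z : K, P.1 z ≤ 1 → P.1 (z ^ (Nat.card k ^ N) - z) < 1 := by
  refine Iff.trans (@forall_pow_card_iff k _ _ (Res P) _ _ (residue_finite hF P) N).symm ⟨fun h z hz => ?_, fun h x => ?_⟩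
  · have := h (IsLocalRing.residue P.O ⟨z, hz⟩)
    rw [← map_pow, residue_eq_iff] at this
    exact this
  · obtain ⟨a, rfl⟩ := IsLocalRing.residue_surjective x
    rw [← map_pow, residue_eq_iff]
    exact h a a.2

end Place

end Groth.Agent.FFLib
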