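import Groth.Agent.FFLib.Weil.Frob
import Groth.Agent.FFLib.Weil.Euler
import Groth.Agent.FFLib.Ram.ConstExt
import Groth.Prelude.Def_W4bk4goldsch45
import Mathlib.LinearAlgebra.Dimension.Constructions

/-! Places of constant field extensions of finite fields. -/

set_option linter.unusedSectionVars false
set_option linter.style.haveILetI false

namespace Groth.Agent.FFLib

open FunFld WithZero IntermediateField
open scoped TensorProduct

section Change

variable (k k' L : Type*) [Field k] [Field k'] [Field L] [Algebra k k'] [FiniteDimensional k k']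
  [Algebra k' L] [Algebra k L] [IsScalarTower k k' L]

theorem finrank_change (κ : Type*) [Field κ] [Algebra k' κ] [Algebra k κ] [IsScalarTower k k' κ] :
    Module.finrank k κ = Module.finrank k k' * Module.finrank k' κ :=
  (Module.finrank_mul_finrank k k' κ).symm

/-- Places over `k'` are places over `k`. -/
def constEquiv : Place k' L ≃ Place k L where
  toFun P := ⟨P.1, fun c => by rw [IsScalarTower.algebraMap_apply k k' L]; exact P.2.1 _, P.2.2⟩
  invFun P := ⟨P.1, fun c => const_val_le_one (k := k) P c, P.2.2⟩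
  left_inv _ := rfl
  right_inv _ := rfl

variable {k k' L}

theorem constEquiv_val (P : Place k' L) (x : L) : (constEquiv k k' L P).1 x = P.1 x := rfl

theorem constEquiv_symm_val (P : Place k L) (x : L) : ((constEquiv k k' L).symm P).1 x = P.1 x := rfl

theorem constEquiv_deg (P : Place k' L) :
    (constEquiv k k' L P).deg = Module.finrank k k' * P.deg := by
  letI : Algebra k (Res P) := ((algebraMap k' (Res P)).comp (algebraMap k k')).toAlgebra
  have htw : IsScalarTower k k' (Res P) := IsScalarTower.of_algebraMap_eq fun _ => rfl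
  have hmap : ∀ c : k, algebraMap k (Res (constEquiv k k' L P)) c = algebraMap k (Res P) c := fun c => by
    show IsLocalRing.residue _ (algebraMap k (constEquiv k k' L P).O c) =
      IsLocalRing.residue _ (algebraMap k' P.O (algebraMap k k' c))
    refine congrArg (IsLocalRing.residue P.O) (Subtype.ext ?_)
    exact IsScalarTower.algebraMap_apply k k' L c
  let e : Res (constEquiv k k' L P) ≃ₗ[k] Res P :=
    { toFun := fun x => x
      invFun := fun x => x
      map_add' := fun _ _ => rfl
      map_smul' := fun c x => by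
        simp only [Algebra.smul_def, RingHom.id_apply]
        exact congrArg (· * x) (hmap c)
      left_inv := fun _ => rfl
      right_inv := fun _ => rfl }
  show Module.finrank k (Res (constEquiv k k' L P)) = _
  rw [e.finrank_eq]
  exact @finrank_change k k' _ _ _ _ (Res P) _ _ _ htw

theorem constEquiv_symm_deg (P : Place k L) :
    P.deg = Module.finrank k k' * ((constEquiv k k' L).symm P).deg := by
  rw [← constEquiv_deg, Equiv.apply_symm_apply]

/-- `IsFF` over a finite extension of the constants. -/
theorem isFF_const (hF : IsFF k L) : IsFF k' L := by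
  obtain ⟨x, hx, hfin⟩ := hF
  refine ⟨x, fun halg => hx (halg.restrictScalars k), ?_⟩
  obtain ⟨s, hs⟩ := hfin.fg_top
  have hle : ∀ a : L, a ∈ k⟮x⟯ → a ∈ k'⟮x⟯ := fun a ha => by
    have : k⟮x⟯ ≤ (k'⟮x⟯).restrictScalars k := adjoin_simple_le_iff.mpr (mem_adjoin_simple_self k' x)
    exact this ha
  refine ⟨⟨s, eq_top_iff.mpr fun z _ => ?_⟩⟩
  have hz : z ∈ Submodule.span k⟮x⟯ (s : Set L) := hs ▸ Submodule.mem_top
  induction hz using Submodule.span_induction with
  | mem a ha => exact Submodule.subset_span ha
  | zero => exact Submodule.zero_mem _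
  | add a b _ _ ha hb => exact Submodule.add_mem _ (ha trivial) (hb trivial)
  | smul c a _ ha =>
    exact Submodule.smul_mem _ (⟨(c : L), hle _ c.2⟩ : k'⟮x⟯) (ha trivial)

theorem deg_equivMapDomain (D : Divisor k L) :
    D.deg = Module.finrank k k' *
      Divisor.deg (k := k') (K := L) (Finsupp.equivMapDomain (constEquiv k k' L).symm D) := by
  rw [Divisor.deg, Divisor.deg, Finsupp.sum_equivMapDomain, Finsupp.mul_sum]
  refine Finset.sum_congr rfl fun P _ => ?_
  simp only [constEquiv_symm_deg (k' := k') P]
  push_cast; ring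

end Change

section Count

variable {k K : Type*} [Field k] [Field K] [Algebra k K]

/-- The places with degree dividing `N`. -/
theorem finite_deg_dvd [Finite k] (hF : IsFF k K) {N : ℕ} (hN : 0 < N) : {P : Place k K | P.deg ∣ N}.Finite :=
  (finite_deg_le (k := k) hF N).subset fun _ hP => Nat.le_of_dvd hN hP

theorem placeCount_eq_sum [Finite k] (hF : IsFF k K) {N : ℕ} (hN : 0 < N) (S : Finset (Place k K))
    (hS : ∀ P, P ∈ S ↔ P.deg ∣ N) : placeCount k K N = ∑ P ∈ S, P.deg := by
  classical
  rw [← Finset.sum_fiberwise_of_maps_to (g := fun P => P.deg) (t := N.divisors)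
    (fun P hP => Nat.mem_divisors.mpr ⟨(hS P).mp hP, hN.ne'⟩)]
  refine Finset.sum_congr rfl fun d hd => ?_
  rw [Finset.sum_const_nat (m := d) fun P hP => (Finset.mem_filter.mp hP).2, mul_comm]
  congr 1
  rw [← Nat.card_eq_finsetCard]
  refine Nat.card_congr (Equiv.subtypeEquivRight fun P => ?_)
  rw [Finset.mem_filter, hS]
  exact ⟨fun h => ⟨h ▸ Nat.dvd_of_mem_divisors hd, h⟩, fun h => h.2⟩

theorem placeCount_one : placeCount k K 1 = Nat.card {P : Place k K // P.deg = 1} := by
  simp [placeCount]

end Count

section ConstExt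

variable {k K k' K' : Type*} [Field k] [Finite k] [Field K] [Field k'] [Field K']
  [Algebra k k'] [FiniteDimensional k k'] [Algebra k K] [Algebra K K'] [Algebra k' K'] [Algebra k K']
  [IsScalarTower k k' K'] [IsScalarTower k K K']
  (h : Function.Bijective (Algebra.TensorProduct.productMap
    (IsScalarTower.toAlgHom k k' K') (IsScalarTower.toAlgHom k K K')))

include h

theorem finite_constExt : FiniteDimensional K K' ∧ Module.finrank K K' = Module.finrank k k' := by
  obtain ⟨vK, -⟩ := exists_const_basis (K := K) h (Module.finBasis k k')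
  exact ⟨Module.Finite.of_basis vK, (Module.finrank_eq_card_basis vK).trans (Fintype.card_fin _)⟩

/-- Over a finite field a constant extension is unramified, with degree the lcm. -/
theorem over_deg_lcm (hF : IsFF k K) {Q : Place k K'} {P : Place k K} (hQ : IsOver Q P) :
    IsOverWith Q P 1 ∧ Q.deg = Nat.lcm P.deg (Module.finrank k k') := by
  classical
  haveI := (finite_constExt h).1
  haveI : Algebra.IsSeparable k k' := Algebra.IsAlgebraic.isSeparable_of_perfectField
  letI : Algebra P.O K' := ((algebraMap K K').comp P.O.subtype).toAlgebra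
  haveI : IsScalarTower P.O K K' := IsScalarTower.of_algebraMap_eq fun _ => rfl
  obtain ⟨hB, he⟩ := constExt_right h hF P (resHom P) (fun a => residue_eq_zero P a)
  refine ⟨he Q hQ, ?_⟩
  have hF' : IsFF k K' := hF.ext
  have h1 := he Q hQ
  set n := Module.finrank k k'
  set q := Nat.card k
  set l := Nat.lcm P.deg n
  haveI : Finite k' := Module.finite_of_finite k
  refine Nat.dvd_antisymm ((deg_dvd_iff hF' Q l).mpr ?_) (Nat.lcm_dvd ?_ ?_)
  · intro z hz
    set Qs := (over_finite (K' := K') hF P).toFinset
    have hQs : ∀ R, R ∈ Qs ↔ IsOver R P := fun R => Set.Finite.mem_toFinset _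
    obtain ⟨z', hz'⟩ := exists_approx Qs (fun R => if R = Q then z else 0) (fun _ => 1)
    have hzQ : Q.1 (z' - z) < 1 := by
      have := hz' Q ((hQs Q).mpr hQ)
      rwa [if_pos rfl, ← le_exp_neg_one_iff] at *
    have hint : ∀ R : Place k K', IsOver R P → R.1 z' ≤ 1 := fun R hR => by
      have h2 := (le_exp_neg_one_iff R).mp (hz' R ((hQs R).mpr hR))
      rw [← sub_add_cancel z' (if R = Q then z else 0)]
      refine (R.1.map_add _ _).trans (max_le h2.le ?_)
      split_ifs with e
      · rw [e]; exact hz
      · simp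
    have hmem : z' ∈ Algebra.adjoin P.O (Set.range (algebraMap k' K')) := by
      have hwint : z' ∈ (integralClosure P.O K').toSubring := by
        obtain ⟨p, hp, hpz⟩ := exists_monic_of_le_one hF P hint
        exact (mem_integralClosure_iff P.O K').mpr ⟨p, hp, hpz⟩
      rw [hB] at hwint
      exact hwint
    clear hint hz'
    have key : Q.1 (z' ^ q ^ l - z') < 1 ∧ Q.1 z' ≤ 1 := by
      clear hzQ
      induction hmem using Algebra.adjoin_induction with
      | mem x hx =>
        obtain ⟨c, rfl⟩ := hx
        refine ⟨?_, const_val_le_one Q c⟩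
        have hc : c ^ q ^ l = c := (forall_pow_card_iff (k := k) (L := k') l).mpr (Nat.dvd_lcm_right _ _) c
        rw [← map_pow, hc, sub_self, map_zero]
        exact one_pos
      | algebraMap a =>
        refine ⟨?_, ?_⟩
        · have := (deg_dvd_iff hF P l).mp (Nat.dvd_lcm_left _ _) a a.2
          show Q.1 (algebraMap K K' a.1 ^ q ^ l - algebraMap K K' a.1) < 1
          rwa [← map_pow, ← map_sub, h1, pow_one]
        · show Q.1 (algebraMap K K' a.1) ≤ 1
          rw [h1, pow_one]; exact a.2
      | add a b _ _ ha hb =>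
        refine ⟨?_, (Q.1.map_add _ _).trans (max_le ha.2 hb.2)⟩
        rw [add_pow_card, add_sub_add_comm]
        exact (Q.1.map_add _ _).trans_lt (max_lt ha.1 hb.1)
      | mul a b _ _ ha hb =>
        refine ⟨?_, by rw [map_mul]; exact mul_le_one' ha.2 hb.2⟩
        rw [show (a * b) ^ q ^ l - a * b = (a ^ q ^ l - a) * b ^ q ^ l + a * (b ^ q ^ l - b) by ring]
        refine (Q.1.map_add _ _).trans_lt (max_lt ?_ ?_) <;> rw [map_mul]
        · exact (mul_le_of_le_one_right' (by rw [map_pow]; exact pow_le_one' hb.2 _)).trans_lt ha.1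
        · exact (mul_le_of_le_one_left' ha.2).trans_lt hb.1
    have h3 : Q.1 ((z' - z) ^ q ^ l) < 1 := by
      rw [map_pow]; exact pow_lt_one' hzQ (pow_ne_zero _ Nat.card_pos.ne')
    rw [sub_pow_card] at h3
    rw [show z ^ q ^ l - z = (z' ^ q ^ l - z') + ((z' - z) + -(z' ^ q ^ l - z ^ q ^ l)) by ring]
    refine (Q.1.map_add _ _).trans_lt (max_lt key.1 ((Q.1.map_add _ _).trans_lt (max_lt hzQ ?_)))
    rwa [Valuation.map_neg]
  · refine (deg_dvd_iff hF P Q.deg).mpr fun z hz => ?_
    have := (deg_dvd_iff hF' Q Q.deg).mp dvd_rfl (algebraMap K K' z) (by rw [h1, pow_one]; exact hz)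
    rwa [← map_pow, ← map_sub, h1, pow_one] at this
  · exact ⟨_, constEquiv_symm_deg (k' := k') Q⟩

/-- Counting points in a constant extension. -/
theorem placeCount_constExt (hF : IsFF k K) {m : ℕ} (hm : 0 < m) :
    placeCount k' K' m = placeCount k K (Module.finrank k k' * m) := by
  classical
  obtain ⟨hfin, hrank⟩ := finite_constExt h
  haveI := hfin
  haveI : Finite k' := Module.finite_of_finite k
  set n := Module.finrank k k'
  have hn : 0 < n := Module.finrank_pos
  have hF' : IsFF k K' := hF.ext
  set S := (finite_deg_dvd hF (Nat.mul_pos hn hm)).toFinset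
  have hS : ∀ P, P ∈ S ↔ P.deg ∣ n * m := fun P => Set.Finite.mem_toFinset _
  set T := (finite_deg_dvd (isFF_const (k' := k') hF') hm).toFinset
  have hT : ∀ P, P ∈ T ↔ P.deg ∣ m := fun P => Set.Finite.mem_toFinset _
  rw [placeCount_eq_sum (isFF_const hF') hm T hT, placeCount_eq_sum hF (Nat.mul_pos hn hm) S hS]
  refine Nat.eq_of_mul_eq_mul_left hn ?_
  rw [Finset.mul_sum, Finset.mul_sum]
  simp only [← hrank]
  have hsum : ∀ P ∈ S, Module.finrank K K' * P.deg =
      ∑ Q ∈ (over_finite (K' := K') hF P).toFinset, Q.deg := fun P _ => by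
    rw [← sum_ram_deg hF P _ fun Q => (over_finite (K' := K') hF P).mem_toFinset]
    refine Finset.sum_congr rfl fun Q hQ => ?_
    have hQ' : IsOver Q P := (over_finite (K' := K') hF P).mem_toFinset.mp hQ
    rw [ramIdx_eq hF (over_deg_lcm h hF hQ').1, one_mul]
  rw [Finset.sum_congr rfl hsum, ← Finset.sum_biUnion fun P₁ _ P₂ _ hne => Finset.disjoint_left.mpr fun Q h1 h2 => hne ?_]
  swap
  · obtain ⟨e1, h1⟩ := (over_finite (K' := K') hF P₁).mem_toFinset.mp h1
    obtain ⟨e2, h2⟩ := (over_finite (K' := K') hF P₂).mem_toFinset.mp h2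
    exact (over_unique hF h1 h2).1
  refine Finset.sum_bij' (fun Q _ => constEquiv k k' K' Q) (fun Q _ => (constEquiv k k' K').symm Q)
    (fun Q hQ => ?_) (fun Q hQ => ?_) (fun _ _ => Equiv.symm_apply_apply _ _) (fun _ _ => Equiv.apply_symm_apply _ _)
    (fun Q _ => by rw [constEquiv_deg, hrank])
  · obtain ⟨P, e, -, he⟩ := exists_over hF (constEquiv k k' K' Q)
    refine Finset.mem_biUnion.mpr ⟨P, (hS P).mpr ?_, (Set.Finite.mem_toFinset _).mpr ⟨e, he⟩⟩
    have h1 := (over_deg_lcm h hF ⟨e, he⟩).2
    rw [constEquiv_deg] at h1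
    exact ((Nat.dvd_lcm_left P.deg _).trans (dvd_of_eq h1.symm)).trans (Nat.mul_dvd_mul_left _ ((hT Q).mp hQ))
  · obtain ⟨P, hP, hQP⟩ := Finset.mem_biUnion.mp hQ
    have hQP' : IsOver Q P := (over_finite (K' := K') hF P).mem_toFinset.mp hQP
    have h1 := (over_deg_lcm h hF hQP').2
    rw [constEquiv_symm_deg (k' := k') Q] at h1
    refine (hT _).mpr (Nat.dvd_of_mul_dvd_mul_left hn ?_)
    rw [h1]
    exact Nat.lcm_dvd ((hS P).mp hP) (dvd_mul_right _ _)

/-- A place of degree `n` splits off a rational place. -/
theorem exists_rational_over (hF : IsFF k K) (P : Place k K) (hP : P.deg = Module.finrank k k') :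
    ∃ Q : Place k' K', Q.deg = 1 ∧ IsOverWith (constEquiv k k' K' Q) P 1 := by
  obtain ⟨hfin, hrank⟩ := finite_constExt h
  haveI := hfin
  obtain ⟨Q, hQ⟩ := exists_isOver (K' := K') hF P
  obtain ⟨h1, h2⟩ := over_deg_lcm h hF hQ
  refine ⟨(constEquiv k k' K').symm Q, ?_, by rwa [Equiv.apply_symm_apply]⟩
  rw [hP, Nat.lcm_self, constEquiv_symm_deg (k' := k') Q] at h2
  exact Nat.eq_of_mul_eq_mul_left (Module.finrank_pos (R := k) (M := k')) (h2.trans (mul_one _).symm)

end ConstExt

section FromIsConstExt

variable {k K k' K' : Type*} [Field k] [Field K] [Algebra k K] [Field k'] [Field K']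
  [Algebra k k'] [FiniteDimensional k k'] [Algebra K K'] [Algebra k' K'] [Algebra k K']
  [IsScalarTower k k' K'] [IsScalarTower k K K']

theorem bijective_of_isConstExt (hce : IsConstExt k K k' K') :
    Function.Bijective (Algebra.TensorProduct.productMap
      (IsScalarTower.toAlgHom k k' K') (IsScalarTower.toAlgHom k K K')) := by
  obtain ⟨-, hgen, hrank⟩ := hce
  have hn : 0 < Module.finrank k k' := Module.finrank_pos
  haveI : FiniteDimensional K K' := Module.finite_of_finrank_pos (hrank ▸ hn)
  let f : K ⊗[k] k' →ₐ[K] K' := Algebra.TensorProduct.lift (Algebra.ofId K K')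
    (IsScalarTower.toAlgHom k k' K') fun a b => Commute.all _ _
  have hf : Function.Surjective f := by
    rw [← AlgHom.range_eq_top, eq_top_iff, ← hgen, Algebra.adjoin_le_iff]
    rintro _ ⟨c, rfl⟩
    exact ⟨1 ⊗ₜ c, by simp [f]⟩
  have hinj : Function.Injective f := by
    refine (LinearMap.injective_iff_surjective_of_finrank_eq_finrank (f := f.toLinearMap) ?_).mpr hf
    rw [Module.finrank_baseChange, hrank]
  have : (Algebra.TensorProduct.productMap (IsScalarTower.toAlgHom k k' K') (IsScalarTower.toAlgHom k K K') :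
      k' ⊗[k] K → K') = f ∘ Algebra.TensorProduct.comm k k' K := by
    funext w
    induction w with
    | zero => simp
    | tmul a b => simp [f, mul_comm]
    | add a b ha hb =>
      simp only [Function.comp_apply] at ha hb ⊢
      rw [map_add, map_add, map_add, ha, hb]
  rw [this]
  exact Function.Bijective.comp ⟨hinj, hf⟩ (Algebra.TensorProduct.comm k k' K).bijective

end FromIsConstExt

end Groth.Agent.FFLib
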