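import Groth.Agent.FFLib.Weil.Indep
import Groth.Agent.FFLib.RR

/-! Bombieri's bound for Frobenius-twisted fixed places. -/

set_option linter.unusedSectionVars false
set_option linter.style.haveILetI false

namespace Groth.Agent.FFLib

open FunFld WithZero

universe u v
variable {k : Type u} {K : Type v} [Field k] [Finite k] [Field K] [Algebra k K]

set_option maxHeartbeats 800000 in
/-- At most `q^{2N} + (2g+1) q^N` fixed points of `σ⁻¹ ∘ Frob`. -/
theorem twisted_bound (hK : IsFunctionField k K) {N : ℕ} (hN : (genus k K + 1) ^ 2 < Nat.card k ^ N)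
    (σ : K ≃ₐ[k] K) (S : Finset (Place k K))
    (hS : ∀ P ∈ S, ∀ z : K, P.1 z ≤ 1 → P.1 (σ z - z ^ (Nat.card k ^ (2 * N))) < 1) :
    ∑ P ∈ S, P.deg ≤ Nat.card k ^ (2 * N) + (2 * genus k K + 1) * Nat.card k ^ N := by
  classical
  have hF : IsFF k K := hK.1
  set g := genus k K
  set Q₀ := Nat.card k ^ N with hQ₀
  have hQQ : Nat.card k ^ (2 * N) = Q₀ * Q₀ := by rw [hQ₀, ← pow_add, two_mul]
  rw [hQQ] at hS ⊢
  rcases S.eq_empty_or_nonempty with rfl | ⟨P₁, hP₁⟩
  · simp
  have hg1 : g + 1 ≤ Q₀ := ((Nat.le_self_pow two_ne_zero _).trans hN.le)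
  -- a divisor of degree one away from `S`
  obtain ⟨D₀, hD₀⟩ := exists_deg_one hK
  obtain ⟨y, hy⟩ := exists_approx_eq S (fun _ => (0 : K)) (fun P => D₀ P)
  have hy0 : y ≠ 0 := fun e => by
    have := hy P₁ hP₁
    rw [e, sub_zero, map_zero] at this
    exact exp_ne_zero this.symm
  set D := D₀ - FunFld.div k y
  have hD : D.deg = 1 := by rw [Divisor.deg_sub, deg_div hF, hD₀, sub_zero]
  have hDS : ∀ P ∈ S, D P = 0 := fun P hP => by
    have := hy P hP
    rw [sub_zero] at this
    rw [Finsupp.sub_apply, div_apply hF, ord_of_val_eq P this, sub_self]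
  let e : Place k K ≃ Place k K :=
    { toFun := placeComap σ
      invFun := placeComap σ.symm
      left_inv := fun P => Subtype.ext (Valuation.ext fun x => by
        show P.1 (σ (σ.symm x)) = P.1 x
        rw [σ.apply_symm_apply])
      right_inv := fun P => Subtype.ext (Valuation.ext fun x => by
        show P.1 (σ.symm (σ x)) = P.1 x
        rw [σ.symm_apply_apply]) }
  have hfix : ∀ P ∈ S, e P = P := fun P hP => (place_eq_of_le fun z hz => by
    show P.1 (σ z) ≤ 1
    rw [← sub_add_cancel (σ z) (z ^ (Q₀ * Q₀))]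
    exact (P.1.map_add _ _).trans (max_le (hS P hP z hz).le (by rw [map_pow]; exact pow_le_one' hz _))).symm
  let D₂ : Divisor k K := Finsupp.equivMapDomain e.symm D
  have hD₂ : D₂.deg = 1 := by
    rw [← hD, Divisor.deg, Divisor.deg]
    show (Finsupp.equivMapDomain e.symm D).sum _ = _
    rw [Finsupp.sum_equivMapDomain]
    exact Finset.sum_congr rfl fun P _ => by
      show D P * ((placeComap σ.symm P).deg : ℤ) = _
      rw [deg_placeComap hF]
  set m := Q₀ - 1
  set l := Q₀ + 2 * g
  have hmg : g * g + 2 * g < m + 1 := by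
    have : g * g + 2 * g + 1 < Q₀ := by
      calc g * g + 2 * g + 1 = (g + 1) ^ 2 := by ring
        _ < _ := hN
    omega
  set E₁ : Divisor k K := (m + l * Q₀ : ℤ) • D
  set E₂ : Divisor k K := (Q₀ * m : ℤ) • D + (l : ℤ) • D₂
  have hdegsmul : ∀ (n : ℤ) (F : Divisor k K), (n • F).deg = n * F.deg := fun n F =>
    map_zsmul (degHom k K) n F
  haveI := L_finite hF ((m : ℤ) • D)
  haveI := L_finite hF ((l : ℤ) • D)
  haveI := L_finite hF E₂
  have hellm : (ell ((m : ℤ) • D) : ℤ) = m + 1 - g := by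
    rw [ell_of_deg_gt hK (by rw [hdegsmul, hD]; change 2 * (g : ℤ) - 2 < _; nlinarith), hdegsmul, hD, mul_one]
  have helll : (ell ((l : ℤ) • D) : ℤ) = l + 1 - g := by
    rw [ell_of_deg_gt hK (by rw [hdegsmul, hD]; change 2 * (g : ℤ) - 2 < _; simp only [l]; push_cast; omega),
      hdegsmul, hD, mul_one]
  have hdeg₂ : E₂.deg = Q₀ * m + l := by rw [Divisor.deg_add, hdegsmul, hdegsmul, hD, hD₂, mul_one, mul_one]
  have hell₂ : (ell E₂ : ℤ) = Q₀ * m + l + 1 - g := by
    rw [ell_of_deg_gt hK (by rw [hdeg₂]; change 2 * (g : ℤ) - 2 < _; simp only [l]; push_cast; nlinarith), hdeg₂]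
  let a := Module.finBasis k (L ((m : ℤ) • D))
  let b := Module.finBasis k (L ((l : ℤ) • D))
  let term : Fin (ell ((l : ℤ) • D)) → K → K := fun j s => s ^ Q₀ * σ (b j : K)
  have hmem : ∀ s : Fin (ell ((l : ℤ) • D)) → L ((m : ℤ) • D), ∑ j, term j (s j : K) ∈ L E₂ := fun s =>
    (L E₂).sum_mem fun j _ P => by
      simp only [term, E₂]
      rw [map_mul, map_pow, Finsupp.add_apply, exp_add, Finsupp.smul_apply, Finsupp.smul_apply, smul_eq_mul, smul_eq_mul]
      refine mul_le_mul' ?_ ?_
      · refine (pow_le_pow_left' ((s j).2 P) Q₀).trans_eq ?_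
        rw [← exp_nsmul, Finsupp.smul_apply, smul_eq_mul, nsmul_eq_mul, mul_assoc]
      · refine ((b j).2 (e P)).trans_eq ?_
        rw [Finsupp.smul_apply, smul_eq_mul, Finsupp.equivMapDomain_apply, Equiv.symm_symm]
  let Θ : (Fin (ell ((l : ℤ) • D)) → L ((m : ℤ) • D)) →ₗ[k] L E₂ :=
    { toFun := fun s => ⟨∑ j, term j (s j : K), hmem s⟩
      map_add' := fun s t => Subtype.ext (by
        simp only [Pi.add_apply, Submodule.coe_add, term, hQ₀, add_pow_card, add_mul, Finset.sum_add_distrib])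
      map_smul' := fun c s => Subtype.ext (by
        simp only [Pi.smul_apply, Submodule.coe_smul, term, RingHom.id_apply, Finset.smul_sum]
        refine Finset.sum_congr rfl fun j _ => ?_
        rw [Algebra.smul_def, Algebra.smul_def, mul_pow, hQ₀, const_pow_card, mul_assoc]) }
  have hlt : ell E₂ < ell ((l : ℤ) • D) * ell ((m : ℤ) • D) := by
    zify
    rw [hell₂, hellm, helll]
    have hm : (m : ℤ) = Q₀ - 1 := by simp only [m]; omega
    have hl : (l : ℤ) = Q₀ + 2 * g := by simp only [l]; push_cast; ring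
    have hN' : ((g : ℤ) + 1) ^ 2 < Q₀ := by exact_mod_cast hN
    rw [hm, hl]; nlinarith
  obtain ⟨s, hs0, hs⟩ : ∃ s, Θ s = 0 ∧ s ≠ 0 := by
    by_contra! hinj
    have h1 := LinearMap.finrank_le_finrank_of_injective (f := Θ) ((injective_iff_map_eq_zero Θ).mpr hinj)
    rw [Module.finrank_pi_fintype, Finset.sum_const, Finset.card_univ, Fintype.card_fin, smul_eq_mul] at h1
    exact (Nat.lt_of_lt_of_le hlt h1).false
  have hsum : ∑ j, term j (s j : K) = 0 := congrArg Subtype.val hs0
  set f := ∑ j, (s j : K) * (b j : K) ^ Q₀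
  have hf0 : f ≠ 0 := by
    intro hf
    have hexp : ∑ i, (a i : K) * (∑ j, a.repr (s j) i • (b j : K)) ^ Q₀ = 0 := by
      refine Eq.trans ?_ hf
      simp only [hQ₀, sum_pow_card, Finset.mul_sum, f]
      rw [Finset.sum_comm]
      refine Finset.sum_congr rfl fun j _ => ?_
      conv_rhs => rw [← a.sum_repr (s j)]
      rw [Submodule.coe_sum, Finset.sum_mul]
      refine Finset.sum_congr rfl fun i _ => ?_
      rw [Submodule.coe_smul, Algebra.smul_def, Algebra.smul_def, mul_pow, const_pow_card]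
      ring
    have hz := pow_indep hK (D := (m : ℤ) • D) (N := N) (by
        rw [hdegsmul, hD, ← hQ₀]; simp only [m]; omega)
      (fun i => (a i).2) (a.linearIndependent.map' (L ((m : ℤ) • D)).subtype (Submodule.ker_subtype _)) hexp
    refine hs (funext fun j => a.repr.injective (Finsupp.ext fun i => ?_))
    have hb := Fintype.linearIndependent_iff.mp
      (b.linearIndependent.map' (L ((l : ℤ) • D)).subtype (Submodule.ker_subtype _)) (fun j => a.repr (s j) i) (congrFun hz i) j
    simpa using hb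
  have hfE : f ∈ L (E₁ - ∑ P ∈ S, Finsupp.single P 1) := by
    intro P
    have hle : P.1 f ≤ exp (E₁ P) := by
      refine Valuation.map_sum_le _ fun j _ => ?_
      simp only [E₁]
      rw [map_mul, map_pow, Finsupp.smul_apply, smul_eq_mul, add_mul, exp_add]
      refine mul_le_mul' (((s j).2 P).trans_eq (by rw [Finsupp.smul_apply, smul_eq_mul]))
        ((pow_le_pow_left' ((b j).2 P) Q₀).trans_eq ?_)
      rw [← exp_nsmul, Finsupp.smul_apply, smul_eq_mul, nsmul_eq_mul]
      ring_nf
    rw [Finsupp.sub_apply, Finsupp.finsetSum_apply]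
    by_cases hP : P ∈ S
    · rw [Finset.sum_eq_single_of_mem P hP (fun R _ hR => Finsupp.single_eq_of_ne' hR), Finsupp.single_eq_same]
      have hE₁ : E₁ P = 0 := by simp [E₁, hDS P hP]
      rw [hE₁, zero_sub, le_exp_neg_one_iff]
      have hint : ∀ (n : ℤ) (x : L (n • D)), P.1 (x : K) ≤ 1 := fun n x => (x.2 P).trans_eq (by
        rw [Finsupp.smul_apply, hDS P hP, smul_zero, exp_zero])
      have hfQ : f ^ Q₀ = ∑ j, (s j : K) ^ Q₀ * ((b j : K) ^ (Q₀ * Q₀) - σ (b j : K)) := by
        simp only [mul_sub, Finset.sum_sub_distrib]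
        rw [show ∑ j, (s j : K) ^ Q₀ * σ (b j : K) = 0 from hsum, sub_zero]
        simp only [f, hQ₀, sum_pow_card, mul_pow, ← pow_mul]
      have : P.1 (f ^ Q₀) < 1 := by
        rw [hfQ]
        refine Valuation.map_sum_lt _ one_ne_zero fun j _ => ?_
        rw [map_mul, Valuation.map_sub_swap]
        exact (mul_le_of_le_one_left' (by rw [map_pow]; exact pow_le_one' (hint _ (s j)) _)).trans_lt
          (hS P hP _ (hint _ (b j)))
      rw [map_pow] at this
      exact (pow_lt_one_iff (by omega)).mp this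
    · rw [Finset.sum_eq_zero fun R hR => Finsupp.single_eq_of_ne' fun (e : R = P) => hP (e ▸ hR), sub_zero]
      exact hle
  haveI := L_finite hF (E₁ - ∑ P ∈ S, Finsupp.single P 1)
  have hpos : 0 < ell (E₁ - ∑ P ∈ S, Finsupp.single P 1) :=
    Module.finrank_pos_iff_exists_ne_zero.mpr ⟨⟨f, hfE⟩, fun e => hf0 (congrArg Subtype.val e)⟩
  have hdeg := deg_nonneg_of_ell_pos hF hpos
  have hsumdeg : (∑ P ∈ S, Finsupp.single P (1 : ℤ) : Divisor k K).deg = ∑ P ∈ S, (P.deg : ℤ) := by
    refine (map_sum (degHom k K) _ S).trans (Finset.sum_congr rfl fun P _ => ?_)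
    exact (Divisor.deg_single P 1).trans (one_mul _)
  rw [Divisor.deg_sub, hdegsmul, hD, hsumdeg] at hdeg
  zify
  have hm : (m : ℤ) = Q₀ - 1 := by simp only [m]; omega
  have hl : (l : ℤ) = Q₀ + 2 * g := by simp only [l]; push_cast; ring
  rw [hm, hl] at hdeg
  nlinarith

end Groth.Agent.FFLib
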