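import Groth.Agent.FFLib.Weil.Euler
import Mathlib.Algebra.Polynomial.Reverse
import Mathlib.RingTheory.IntegralClosure.IsIntegral.Basic
import Mathlib.Data.Fin.Tuple.Basic

/-! The reciprocal roots of the numerator and their pairing. -/

set_option linter.unusedSectionVars false
set_option linter.style.haveILetI false

namespace Groth.Agent.FFLib

open FunFld WithZero Polynomial

/-- A multiset stable under `a ↦ q / a` with product `q^g` can be paired. -/
theorem exists_pairing {F : Type*} [Field F] {q : F} (hq : q ≠ 0) :
    ∀ (g : ℕ) (A : Multiset F), Multiset.card A = 2 * g → (∀ a ∈ A, a ≠ 0) → A.map (q / ·) = A → A.prod = q ^ g →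
      ∃ α : Fin (2 * g) → F, Finset.univ.val.map α = A ∧ ∀ i, α i * α (Fin.rev i) = q := by
  classical
  intro g
  induction g with
  | zero =>
    intro A hA _ _ _
    refine ⟨fun i => i.elim0, ?_, fun i => i.elim0⟩
    rw [Multiset.card_eq_zero.mp (by omega : Multiset.card A = 0)]
    rfl
  | succ g ih =>
    intro A hA h0 hinv hprod
    suffices h : ∃ a B, A = a ::ₘ q / a ::ₘ B by
      obtain ⟨a, B, rfl⟩ := h
      have ha : a ≠ 0 := h0 a (by simp)
      have hqa : q / (q / a) = a := by field_simp
      simp only [Multiset.map_cons, hqa] at hinv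
      rw [Multiset.cons_swap, Multiset.cons_inj_right, Multiset.cons_inj_right] at hinv
      simp only [Multiset.prod_cons, ← mul_assoc, mul_div_cancel₀ _ ha, pow_succ'] at hprod
      obtain ⟨β, hβ, hβp⟩ := ih B (by simpa [Nat.mul_succ] using hA) (fun b hb => h0 b (by simp [hb])) hinv
        (mul_left_cancel₀ hq hprod)
      let α : Fin (2 * g + 2) → F := Fin.cons a (Fin.snoc β (q / a))
      refine ⟨α, ?_, fun i => ?_⟩
      · show (Finset.univ : Finset (Fin (2 * g + 2))).val.map α = _
        rw [Fin.univ_val_map, List.ofFn_cons, ← Multiset.cons_coe, List.ofFn_succ']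
        simp only [Fin.snoc_castSucc, Fin.snoc_last, List.concat_eq_append]
        rw [← Multiset.coe_add, ← Fin.univ_val_map, hβ]
        rw [add_comm, Multiset.coe_singleton, Multiset.singleton_add]
      · show α i * α (Fin.rev (i : Fin (2 * g + 2))) = q
        have key : ∀ i : Fin (2 * g + 2), α i * α (Fin.rev i) = q := by
          intro i
          refine Fin.cases ?_ (fun j => ?_) i
          · rw [Fin.rev_zero, ← Fin.succ_last]
            simp only [α, Fin.cons_zero, Fin.cons_succ, Fin.snoc_last]
            exact mul_div_cancel₀ _ ha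
          · refine Fin.lastCases ?_ (fun l => ?_) j
            · rw [Fin.rev_succ, Fin.rev_last, Fin.castSucc_zero]
              simp only [α, Fin.cons_zero, Fin.cons_succ, Fin.snoc_last]
              rw [mul_comm]; exact mul_div_cancel₀ _ ha
            · rw [Fin.rev_succ, Fin.rev_castSucc, Fin.castSucc_succ]
              simp only [α, Fin.cons_succ, Fin.snoc_castSucc]
              exact hβp l
        exact key i
    -- find a pair
    by_cases hcase : ∃ a ∈ A, q / a ≠ a ∨ 2 ≤ A.count a
    · obtain ⟨a, haA, ha⟩ := hcase
      have hqa : q / a ∈ A := by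
        have := Multiset.mem_map_of_mem (q / ·) haA
        rwa [hinv] at this
      have hmem : q / a ∈ A.erase a := by
        rcases ha with h | h
        · exact (Multiset.mem_erase_of_ne h).mpr hqa
        · by_cases he : q / a = a
          · rw [he, ← Multiset.count_pos, Multiset.count_erase_self]; omega
          · exact (Multiset.mem_erase_of_ne he).mpr hqa
      exact ⟨a, (A.erase a).erase (q / a), by rw [Multiset.cons_erase hmem, Multiset.cons_erase haA]⟩
    exfalso
    push Not at hcase
    have hnd : A.Nodup := Multiset.nodup_iff_count_le_one.mpr fun a => by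
      by_cases h : a ∈ A
      · have := (hcase a h).2; omega
      · simp [Multiset.count_eq_zero_of_notMem h]
    have hcard : A.toFinset.card = 2 * (g + 1) := by rw [Multiset.toFinset_card_of_nodup hnd, hA]
    obtain ⟨s, hs⟩ : ∃ s, s ∈ A.toFinset := Finset.card_pos.mp (by omega)
    have hfix : ∀ a ∈ A, a * a = q := fun a ha => by
      have := (hcase a ha).1
      rw [div_eq_iff (h0 a ha)] at this
      exact this.symm
    have hsub : A.toFinset ⊆ {s, -s} := fun a ha => by
      rw [Multiset.mem_toFinset] at ha hs
      have : a * a = s * s := by rw [hfix a ha, hfix s hs]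
      simpa [mul_self_eq_mul_self_iff] using this
    have h2 := Finset.card_le_card hsub
    have h3 : ({s, -s} : Finset F).card ≤ 2 := Finset.card_le_two
    obtain rfl : g = 0 := by omega
    have heq := Finset.eq_of_subset_of_card_le hsub (by omega)
    have hne : s ≠ -s := fun e => by rw [← e, Finset.pair_eq_singleton] at heq; rw [heq] at hcard; simp at hcard
    have hp : A.toFinset.prod id = q := by
      have : A = A.toFinset.val := by simp [Multiset.dedup_eq_self.mpr hnd]
      rw [Finset.prod_eq_multiset_prod, Multiset.map_id, ← this, hprod, zero_add, pow_one]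
    rw [heq, Finset.prod_pair hne, id_eq, id_eq, mul_neg, hfix s (Multiset.mem_toFinset.mp hs)] at hp
    refine hne ?_
    have h2q : (2 : F) * q = 0 := by linear_combination -hp
    have h20 : (2 : F) = 0 := (mul_eq_zero.mp h2q).resolve_right hq
    linear_combination s * h20

variable {k K : Type*} [Field k] [Field K] [Algebra k K]

theorem exists_reciprocal_roots [Finite k] (hK : IsFunctionField k K) :
    ∃ α : Fin (2 * genus k K) → ℂ, (∀ i, IsIntegral ℤ (α i)) ∧
      PowerSeries.map (Int.castRingHom ℂ) (numerZ k K) =
        ((∏ i, (1 - Polynomial.C (α i) * Polynomial.X) : Polynomial ℂ) : PowerSeries ℂ) ∧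
      ∀ i, α i * α (Fin.rev i) = (Nat.card k : ℂ) := by
  classical
  obtain ⟨D, hD⟩ := exists_deg_one hK
  haveI := finite_pic0 (k := k) hK.1
  haveI := Fintype.ofFinite (Pic0 k K)
  set g := genus k K
  set q : ℂ := (Nat.card k : ℂ)
  have hq : q ≠ 0 := by
    have : 0 < Nat.card k := Nat.card_pos
    simp only [q, ne_eq, Nat.cast_eq_zero]; omega
  set p : ℤ[X] := PowerSeries.trunc (2 * g + 1) (numerZ k K)
  have hp : ∀ n, p.coeff n = PowerSeries.coeff n (numerZ k K) := fun n => by
    rw [PowerSeries.coeff_trunc]
    split_ifs with h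
    · rfl
    · exact (numerZ_vanish hK hD n (by omega)).symm
  have hfun : ∀ i, i ≤ 2 * g → (p.coeff (2 * g - i) : ℂ) = q ^ ((g : ℤ) - i) * (p.coeff i : ℂ) := fun i hi => by
    have h := congrArg (Rat.cast : ℚ → ℂ) (numerZ_functional (K := K) hK hD i (2 * g - i) (Nat.sub_add_cancel hi))
    push_cast at h
    rw [hp, hp]; exact h
  have hp0 : p.coeff 0 = 1 := by rw [hp, constantCoeff_numerZ hK.1]
  have hlead : (p.coeff (2 * g) : ℂ) = q ^ g := by
    have := hfun 0 (Nat.zero_le _)
    rw [hp0] at this
    simpa using this
  have hdeg : p.natDegree = 2 * g := by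
    refine natDegree_eq_of_le_of_coeff_ne_zero (natDegree_le_iff_coeff_eq_zero.mpr fun n hn => ?_) fun h => ?_
    · rw [hp]; exact numerZ_vanish hK hD n hn
    · rw [h] at hlead; exact pow_ne_zero g hq (by simpa using hlead.symm)
  set P : ℂ[X] := p.map (Int.castRingHom ℂ)
  have hPdeg : P.natDegree = 2 * g := by rw [natDegree_map_eq_of_injective Int.cast_injective, hdeg]
  have hPc : ∀ n, P.coeff n = (p.coeff n : ℂ) := fun n => by simp [P]
  have hP0 : P.coeff 0 = 1 := by rw [hPc, hp0]; simp
  have hPne : P ≠ 0 := fun e => by simp [e] at hP0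
  have hsplit : P.Splits := IsAlgClosed.splits P
  have hcard : Multiset.card P.roots = 2 * g := by
    rw [IsAlgClosed.card_roots_eq_natDegree, hPdeg]
  have hr0 : ∀ r ∈ P.roots, r ≠ 0 := fun r hr e => by
    subst e
    have := (mem_roots hPne).mp hr
    rw [IsRoot, ← coeff_zero_eq_eval_zero, hP0] at this
    exact one_ne_zero this
  set A := P.roots.map (·⁻¹)
  have hfact : P = (A.map fun a => 1 - C a * X).prod := by
    conv_lhs => rw [hsplit.eq_prod_roots]
    have h1 : ∀ M : Multiset ℂ, (∀ r ∈ M, r ≠ 0) → (M.map fun r => X - C r).prod =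
        C ((M.map fun r => -r).prod) * ((M.map (·⁻¹)).map fun a => 1 - C a * X).prod := fun M hM => by
      induction M using Multiset.induction_on with
      | empty => simp
      | cons r M ih =>
        simp only [Multiset.map_cons, Multiset.prod_cons, map_mul, ih (fun x hx => hM x (Multiset.mem_cons_of_mem hx))]
        have hr : C r * C r⁻¹ = (1 : ℂ[X]) := by rw [← map_mul, mul_inv_cancel₀ (hM r (by simp)), map_one]
        rw [map_neg]
        linear_combination (-(C ((M.map fun r => -r).prod) * X * ((M.map (·⁻¹)).map fun a => 1 - C a * X).prod)) * hr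
    rw [h1 _ hr0, ← mul_assoc, ← map_mul]
    have hc : P.leadingCoeff * (P.roots.map fun r => -r).prod = 1 := by
      have h2 := congrArg (fun f => eval 0 f) hsplit.eq_prod_roots
      simp only [eval_mul, eval_C, eval_multiset_prod, Multiset.map_map, Function.comp_def, eval_sub, eval_X, zero_sub] at h2
      rw [← h2, ← coeff_zero_eq_eval_zero, hP0]
    rw [hc, map_one, one_mul]
  have hrev : P.reverse = C (q ^ g) * P.comp (C q⁻¹ * X) := by
    ext n
    rw [coeff_reverse, hPdeg, coeff_C_mul, comp_C_mul_X_coeff]
    rcases le_or_gt n (2 * g) with hn | hn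
    · rw [revAt_le hn]
      rw [hPc, hPc, hfun n hn, zpow_sub₀ hq, zpow_natCast, zpow_natCast, inv_pow]
      field_simp
    · rw [revAt_eq_self_of_lt hn]
      rw [coeff_eq_zero_of_natDegree_lt (by omega)]; simp
  have hroots : ∀ a : ℂ, a ≠ 0 → P.reverse.rootMultiplicity a = P.roots.count a⁻¹ → True := fun _ _ _ => trivial
  have hinv : A.map (q / ·) = A := by
    -- the roots of the reversed polynomial, computed twice
    have h1 : P.reverse = (A.map fun a => X - C a).prod := by
      conv_lhs => rw [hfact]
      have : ∀ M : Multiset ℂ, (∀ a ∈ M, a ≠ 0) → ((M.map fun a => 1 - C a * X).prod).reverse = (M.map fun a => X - C a).prod := by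
        intro M hM
        induction M using Multiset.induction_on with
        | empty => rw [Multiset.map_zero, Multiset.prod_zero, ← C_1, reverse_C]; simp
        | cons a M ih =>
          simp only [Multiset.map_cons, Multiset.prod_cons, reverse_mul_of_domain,
            ih fun x hx => hM x (Multiset.mem_cons_of_mem hx)]
          congr 1
          have ha := hM a (by simp)
          have hd : (1 - C a * X : ℂ[X]).natDegree = 1 := by
            rw [show (1 - C a * X : ℂ[X]) = C (-a) * X + C 1 by simp; ring]
            exact natDegree_linear (neg_ne_zero.mpr ha)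
          ext n
          rw [coeff_reverse, hd]
          rcases n with _ | _ | n
          · rw [revAt_le (Nat.zero_le _)]; simp [coeff_one, coeff_X]
          · rw [revAt_le le_rfl]; simp [coeff_one, coeff_X, coeff_C]
          · rw [revAt_eq_self_of_lt (by omega)]; simp [coeff_one, coeff_X, coeff_C]
      exact this A fun a ha => by
        obtain ⟨r, hr, rfl⟩ := Multiset.mem_map.mp ha
        exact inv_ne_zero (hr0 r hr)
    have h2 : P.reverse.roots = A := by rw [h1, roots_multiset_prod_X_sub_C]
    have hcomp : (P.comp (C q⁻¹ * X)).roots = P.roots.map (fun r => q * r) := by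
      conv_lhs => rw [hsplit.eq_prod_roots, mul_comp, C_comp, multiset_prod_comp, Multiset.map_map]
      have : ∀ r : ℂ, ((fun f : ℂ[X] => f.comp (C q⁻¹ * X)) ∘ fun r => X - C r) r = C q⁻¹ * (X - C (q * r)) := fun r => by
        simp only [Function.comp_apply, sub_comp, X_comp, C_comp, mul_sub, ← map_mul, inv_mul_cancel_left₀ hq]
      rw [Multiset.map_congr rfl fun r _ => this r, Multiset.prod_map_mul, Multiset.map_const', Multiset.prod_replicate,
        ← map_pow, ← mul_assoc, ← map_mul, roots_C_mul _ (mul_ne_zero (leadingCoeff_ne_zero.mpr hPne) (pow_ne_zero _ (inv_ne_zero hq))),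
        show P.roots.map (fun r => X - C (q * r)) = (P.roots.map fun r => q * r).map (fun a => X - C a) from
          (Multiset.map_map (fun a => X - C a) (fun r => q * r) P.roots).symm, roots_multiset_prod_X_sub_C]
    rw [hrev, roots_C_mul _ (pow_ne_zero g hq), hcomp] at h2
    simp only [A, Multiset.map_map]
    conv_rhs => rw [show P.roots.map (·⁻¹) = A from rfl, ← h2]
    exact Multiset.map_congr rfl fun r _ => by simp [Function.comp_apply, div_inv_eq_mul]
  have hprod : A.prod = q ^ g := by
    have h := congrArg (fun f : ℂ[X] => f.coeff (2 * g)) hfact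
    rw [hPc, hlead] at h
    have key : ∀ M : Multiset ℂ, ((M.map fun a => 1 - C a * X).prod).coeff (Multiset.card M) = (-1) ^ Multiset.card M * M.prod ∧
        ((M.map fun a => 1 - C a * X).prod).natDegree ≤ Multiset.card M := by
      intro M
      induction M using Multiset.induction_on with
      | empty => simp
      | cons a M ih =>
        simp only [Multiset.map_cons, Multiset.prod_cons, Multiset.card_cons]
        have hd : (1 - C a * X : ℂ[X]).natDegree ≤ 1 := by
          refine (natDegree_sub_le _ _).trans (max_le (by simp) (natDegree_C_mul_X_pow_le a 1 |>.trans' (by simp)))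
        refine ⟨?_, ?_⟩
        · rw [add_comm, coeff_mul_add_eq_of_natDegree_le hd ih.2, ih.1, coeff_sub, coeff_one, coeff_C_mul, coeff_X_one,
            if_neg one_ne_zero]
          ring
        · exact natDegree_mul_le.trans (by omega)
    have hA : Multiset.card A = 2 * g := by rw [Multiset.card_map, hcard]
    have h2 := (key A).1
    rw [hA] at h2
    rw [h, h2]
    simp [pow_mul]
  obtain ⟨α, hαA, hpair⟩ := exists_pairing hq g A (by rw [Multiset.card_map, hcard]) (fun a ha => by
    obtain ⟨r, hr, rfl⟩ := Multiset.mem_map.mp ha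
    exact inv_ne_zero (hr0 r hr)) hinv hprod
  refine ⟨α, fun i => ?_, ?_, hpair⟩
  · refine ⟨p.reverse, ?_, ?_⟩
    · rw [Monic, reverse_leadingCoeff, trailingCoeff, natTrailingDegree_eq_zero.mpr (Or.inr (by rw [hp0]; exact one_ne_zero)), hp0]
    · have hmem : α i ∈ A := hαA ▸ Multiset.mem_map_of_mem α (Finset.mem_univ i)
      obtain ⟨r, hr, hri⟩ := Multiset.mem_map.mp hmem
      have hev : P.eval r = 0 := (mem_roots hPne).mp hr
      rw [← hri]
      haveI : Invertible r := invertibleOfNonzero (hr0 r hr)
      rw [← invOf_eq_inv, eval₂_reverse_eq_zero_iff]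
      simpa [P, eval_map] using hev
  · have hser : PowerSeries.map (Int.castRingHom ℂ) (numerZ k K) = (P : PowerSeries ℂ) := by
      ext n; rw [PowerSeries.coeff_map, Polynomial.coeff_coe, hPc, hp]; rfl
    rw [hser, hfact, ← hαA, Multiset.map_map]
    rfl

end Groth.Agent.FFLib
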