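import Groth.Agent.FFLib.Weil.Bombieri
import Groth.Agent.FFLib.Weil.Roots
import Groth.Agent.FFLib.Ram.Unramified
import Groth.Agent.FFLib.Galois
import Groth.Agent.FFLib.Rational

/-! The lower bound for the number of points via a Galois covering of the line. -/

set_option linter.unusedSectionVars false
set_option linter.style.haveILetI false

namespace Groth.Agent.FFLib

open FunFld WithZero IntermediateField

universe u v

section Frobenius

variable {k E M : Type*} [Field k] [Finite k] [Field E] [Field M] [Algebra k E] [Algebra E M]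
  [Algebra k M] [IsScalarTower k E M] [FiniteDimensional E M] [IsGalois E M]

theorem exists_generator_lift (hF : IsFF k M) (Q : Place k M) :
    ∃ u : M, Q.1 u = 1 ∧ ∀ z : M, Q.1 z = 1 → ∃ i : ℕ, Q.1 (z - u ^ i) < 1 := by
  haveI := residue_finite hF Q
  haveI : Finite (Res Q) := Nat.finite_of_card_ne_zero (by
    rw [natCard_res hF Q]; exact pow_ne_zero _ Nat.card_pos.ne')
  obtain ⟨g, hg⟩ := IsCyclic.exists_monoid_generator (α := (Res Q)ˣ)
  obtain ⟨a, ha⟩ := IsLocalRing.residue_surjective (g : Res Q)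
  refine ⟨a, le_antisymm a.2 (not_lt.mp fun h => g.ne_zero (ha ▸ (residue_eq_zero Q a).mpr h)), fun z hz => ?_⟩
  have hne : IsLocalRing.residue Q.O ⟨z, hz.le⟩ ≠ 0 := fun e =>
    ((residue_eq_zero Q _).mp e).ne hz
  obtain ⟨i, hi⟩ := hg (Units.mk0 _ hne)
  refine ⟨i, ?_⟩
  have h2 : IsLocalRing.residue Q.O ⟨z, hz.le⟩ = IsLocalRing.residue Q.O (a ^ i) := by
    rw [map_pow, ha, ← Units.val_pow_eq_pow_val]
    exact (congrArg Units.val hi).symm
  rw [residue_eq_iff] at h2
  exact h2

open Polynomial in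
/-- Existence of Frobenius elements. -/
theorem exists_frobenius (hF : IsFF k E) {Q : Place k M} {t : Place k E} (hQ : IsOver Q t) {n : ℕ}
    (hn : t.deg ∣ n) :
    ∃ σ : M ≃ₐ[E] M, ∀ z : M, Q.1 z ≤ 1 → Q.1 (σ z - z ^ (Nat.card k ^ n)) < 1 := by
  classical
  set N := Nat.card k ^ n with hN
  have hN0 : N ≠ 0 := pow_ne_zero _ Nat.card_pos.ne'
  have hFM : IsFF k M := hF.ext
  obtain ⟨u, hu, hgen⟩ := exists_generator_lift hFM Q
  set Qs := (over_finite (K' := M) hF t).toFinset
  have hQs : ∀ R, R ∈ Qs ↔ IsOver R t := fun R => (over_finite (K' := M) hF t).mem_toFinset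
  obtain ⟨a, ha⟩ := exists_approx Qs (fun R => if R = Q then u else 0) (fun _ => 1)
  have haQ : Q.1 (a - u) < 1 := by
    have := ha Q ((hQs Q).mpr hQ)
    rwa [if_pos rfl, le_exp_neg_one_iff] at this
  have ha1 : Q.1 a = 1 := by
    have := Valuation.map_add_eq_of_lt_right Q.1 (haQ.trans_eq hu.symm)
    rwa [sub_add_cancel, hu] at this
  have ha0 : ∀ R, IsOver R t → R ≠ Q → R.1 a < 1 := fun R hR hne => by
    have := ha R ((hQs R).mpr hR)
    rwa [if_neg hne, sub_zero, le_exp_neg_one_iff] at this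
  have hR : ∀ σ : M ≃ₐ[E] M, IsOver (placeComap (σ.restrictScalars k) Q) t := fun σ => by
    obtain ⟨e, he⟩ := hQ
    exact ⟨e, isOverWith_placeComap σ he⟩
  have haσ : ∀ σ : M ≃ₐ[E] M, Q.1 (σ a) ≤ 1 := fun σ => by
    show (placeComap (σ.restrictScalars k) Q).1 a ≤ 1
    rcases eq_or_ne (placeComap (σ.restrictScalars k) Q) Q with e | e
    · rw [e, ha1]
    · exact (ha0 _ (hR σ) e).le
  let pO : Q.O[X] := ∏ σ : M ≃ₐ[E] M, (X - C (⟨σ a, haσ σ⟩ : Q.O))
  set p : M[X] := pO.map Q.O.subtype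
  have hp : p = ∏ σ : M ≃ₐ[E] M, (X - C (σ a)) := by
    simp only [p, pO, Polynomial.map_prod, Polynomial.map_sub, map_X, map_C]
    rfl
  have hfix : ∀ τ : M ≃ₐ[E] M, p.map (τ : M →+* M) = p := fun τ => by
    rw [hp, Polynomial.map_prod]
    refine Fintype.prod_equiv (Equiv.mulLeft τ) _ _ fun σ => ?_
    simp [AlgEquiv.mul_apply]
  have hcoef : ∀ i, ∃ e : E, algebraMap E M e = p.coeff i := fun i =>
    (IsGalois.mem_range_algebraMap_iff_fixed (p.coeff i)).mpr fun τ => by
      conv_rhs => rw [← hfix τ, coeff_map]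
      rfl
  choose c hc using hcoef
  have hci : ∀ i, Q.1 (p.coeff i ^ N - p.coeff i) < 1 := fun i => by
    obtain ⟨e, he⟩ := id hQ
    have hint : t.1 (c i) ≤ 1 := by
      have h1 : Q.1 (p.coeff i) ≤ 1 := by rw [coeff_map]; exact (pO.coeff i).2
      rw [← hc, he, pow_le_one_iff (by have := over_pos hF he; omega)] at h1
      exact h1
    rw [← hc, ← map_pow, ← map_sub, he]
    exact pow_lt_one' ((deg_dvd_iff hF t n).mp hn _ hint) (by have := over_pos hF he; omega)
  have hzero : p.eval a = 0 := by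
    rw [hp, eval_prod]
    exact Finset.prod_eq_zero (Finset.mem_univ 1) (by simp)
  have hsmall : Q.1 (p.eval (a ^ N)) < 1 := by
    have hex : p.eval (a ^ N) = ∑ i ∈ Finset.range (p.natDegree + 1), (p.coeff i - p.coeff i ^ N) * (a ^ N) ^ i := by
      rw [eval_eq_sum_range]
      simp only [sub_mul, Finset.sum_sub_distrib]
      rw [eq_sub_iff_add_eq, add_eq_left]
      have h0 : (p.eval a) ^ N = 0 := by rw [hzero, zero_pow hN0]
      rw [eval_eq_sum_range, hN, sum_pow_card] at h0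
      refine Eq.trans (Finset.sum_congr rfl fun i _ => ?_) h0
      rw [hN, mul_pow, ← pow_mul, ← pow_mul]; ring
    rw [hex]
    refine Valuation.map_sum_lt _ one_ne_zero fun i _ => ?_
    rw [map_mul, Valuation.map_sub_swap, map_pow, map_pow, ha1, one_pow, one_pow, mul_one]
    exact hci i
  obtain ⟨σ, hσ⟩ : ∃ σ : M ≃ₐ[E] M, Q.1 (a ^ N - σ a) < 1 := by
    by_contra! hall
    rw [hp, eval_prod, map_prod] at hsmall
    refine hsmall.not_ge (Finset.one_le_prod' fun σ _ => ?_)
    simpa using hall σ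
  have hQσ : placeComap (σ.restrictScalars k) Q = Q := by
    by_contra hne
    have h1 : Q.1 (σ a) < 1 := ha0 _ (hR σ) hne
    have h2 : Q.1 (a ^ N) = 1 := by rw [map_pow, ha1, one_pow]
    rw [← sub_add_cancel (a ^ N) (σ a)] at h2
    exact ((Q.1.map_add _ _).trans_lt (max_lt hσ h1)).ne h2
  have hval : ∀ w, Q.1 (σ w) = Q.1 w := fun w => by
    conv_rhs => rw [← hQσ]
    rfl
  refine ⟨σ, fun z hz => ?_⟩
  rcases lt_or_eq_of_le hz with hlt | heq
  · refine (Q.1.map_sub _ _).trans_lt (max_lt ?_ ?_)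
    · rw [hval]; exact hlt
    · rw [map_pow]; exact pow_lt_one' hlt hN0
  · obtain ⟨i, hi⟩ := hgen z heq
    have hzi : Q.1 (z - a ^ i) < 1 := by
      have h1 : IsLocalRing.residue Q.O (⟨a, ha1.le⟩ : Q.O) = IsLocalRing.residue Q.O (⟨u, hu.le⟩ : Q.O) :=
        (residue_eq_iff Q _ _).mpr haQ
      have h2 := (residue_eq_iff Q ⟨z, hz⟩ ((⟨u, hu.le⟩ : Q.O) ^ i)).mpr hi
      rw [map_pow, ← h1, ← map_pow] at h2
      exact (residue_eq_iff Q _ _).mp h2
    have hpow : Q.1 ((σ a) ^ i - (a ^ N) ^ i) < 1 := by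
      have h1 : IsLocalRing.residue Q.O (⟨σ a, haσ σ⟩ : Q.O) =
          IsLocalRing.residue Q.O ((⟨a, ha1.le⟩ : Q.O) ^ N) :=
        (residue_eq_iff Q _ _).mpr (by rw [Valuation.map_sub_swap]; exact hσ)
      have h2 : IsLocalRing.residue Q.O ((⟨σ a, haσ σ⟩ : Q.O) ^ i) =
          IsLocalRing.residue Q.O (((⟨a, ha1.le⟩ : Q.O) ^ N) ^ i) := by
        rw [map_pow, map_pow (IsLocalRing.residue Q.O) _ i, h1]
      exact (residue_eq_iff Q _ _).mp h2
    rw [show σ z - z ^ N = σ (z - a ^ i) + (((σ a) ^ i - (a ^ N) ^ i) - (z ^ N - (a ^ i) ^ N)) by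
      rw [map_sub, map_pow]; ring]
    refine (Q.1.map_add _ _).trans_lt (max_lt (by rw [hval]; exact hzi)
      ((Q.1.map_sub _ _).trans_lt (max_lt hpow ?_)))
    rw [hN, ← sub_pow_card, map_pow]
    exact pow_lt_one' hzi hN0

end Frobenius

section Count

variable {k : Type u} {E K M k₁ : Type v} [Field k] [Finite k] [Field E] [Field K] [Field M] [Field k₁]
  [Algebra k E] [Algebra k K] [Algebra k M] [Algebra E K] [Algebra E M] [Algebra K M]
  [Algebra k k₁] [Algebra k₁ M] [IsScalarTower k E K] [IsScalarTower k E M] [IsScalarTower k K M]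
  [IsScalarTower E K M] [IsScalarTower k k₁ M]
  [FiniteDimensional E K] [FiniteDimensional E M] [IsGalois E M] [FiniteDimensional k k₁]

theorem finrank_le_adjoin_const (hE : IsFF k E) {x : E} (hgen : k⟮x⟯ = ⊤) :
    Module.finrank k k₁ ≤ Module.finrank E (IntermediateField.adjoin E (Set.range (algebraMap k₁ M))) := by
  classical
  have hx : Transcendental k x := by
    obtain ⟨y, hy, -⟩ := hE
    intro hx
    refine hy ?_
    have : y ∈ k⟮x⟯ := hgen ▸ IntermediateField.mem_top
    have halg := IntermediateField.isAlgebraic_adjoin_simple hx.isIntegral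
    exact (isAlgebraic_algHom_iff k⟮x⟯.val k⟮x⟯.val.injective (a := ⟨y, this⟩)).mpr (halg.isAlgebraic _)
  set E₁ := IntermediateField.adjoin E (Set.range (algebraMap k₁ M))
  let v := Module.finBasis k k₁
  let w : Fin (Module.finrank k k₁) → E₁ := fun i =>
    ⟨algebraMap k₁ M (v i), IntermediateField.subset_adjoin _ _ ⟨v i, rfl⟩⟩
  suffices LinearIndependent E w by simpa using this.fintype_card_le_finrank
  have hFM : IsFF k M := hE.ext
  have hx' := transcendental_map (K' := M) hx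
  have hind : LinearIndependent k⟮algebraMap E M x⟯ fun i => algebraMap k₁ M (v i) := by
    refine linearIndependent_adjoin hx' fun p hp => ?_
    obtain ⟨P, hP⟩ := exists_place_zero hFM hx'
    have hc : P.1 (algebraMap k₁ M (∑ i, (p i).coeff 0 • v i)) < 1 := by
      have : algebraMap k₁ M (∑ i, (p i).coeff 0 • v i) =
          -∑ i, (Polynomial.aeval (algebraMap E M x) (p i) - algebraMap k M ((p i).coeff 0)) * algebraMap k₁ M (v i) := by
        simp only [sub_mul, Finset.sum_sub_distrib]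
        rw [hp, zero_sub, neg_neg, map_sum]
        exact Finset.sum_congr rfl fun i _ => by
          rw [Algebra.smul_def, map_mul, ← IsScalarTower.algebraMap_apply]
      rw [this, Valuation.map_neg]
      refine Valuation.map_sum_lt _ one_ne_zero fun i _ => ?_
      rw [map_mul]
      refine (mul_le_of_le_one_right' (const_val_le_one P _)).trans_lt ?_
      conv_lhs => rw [← Polynomial.X_mul_divX_add (p i)]
      rw [Polynomial.coeff_add, Polynomial.coeff_X_mul_zero, Polynomial.coeff_C_zero, zero_add, map_add,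
        Polynomial.aeval_C, add_sub_cancel_right, map_mul, Polynomial.aeval_X, map_mul]
      exact (mul_le_of_le_one_right' (val_aeval_le_one P.2.1 hP.le _)).trans_lt hP
    have hzero : ∑ i, (p i).coeff 0 • v i = 0 := by
      by_contra hne
      have hne' : algebraMap k₁ M (∑ i, (p i).coeff 0 • v i) ≠ 0 := (_root_.map_ne_zero _).mpr hne
      exact transcendental_of_val_ne_one P hne' hc.ne
        ((Algebra.IsAlgebraic.isAlgebraic (R := k) _).algHom (IsScalarTower.toAlgHom k k₁ M))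
    exact Fintype.linearIndependent_iff.mp v.linearIndependent _ hzero
  rw [Fintype.linearIndependent_iff] at hind ⊢
  intro g hg i
  have hmem : ∀ e : E, algebraMap E M e ∈ k⟮algebraMap E M x⟯ := fun e => by
    have : (k⟮x⟯).map (IsScalarTower.toAlgHom k E M) = k⟮algebraMap E M x⟯ := by
      rw [IntermediateField.adjoin_map, Set.image_singleton]; rfl
    rw [← this, hgen]
    exact ⟨e, IntermediateField.mem_top, rfl⟩
  have h0 := hind (fun i => ⟨algebraMap E M (g i), hmem (g i)⟩) (by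
    have := congrArg Subtype.val hg
    rw [IntermediateField.coe_sum] at this
    refine Eq.trans (Finset.sum_congr rfl fun i _ => ?_) this
    simp only [IntermediateField.coe_smul, Algebra.smul_def, w]
    rfl) i
  simpa using congrArg Subtype.val h0

set_option maxHeartbeats 800000 in
/-- The lower bound. -/
theorem galois_lower (hE : IsFunctionField k E) (hK : IsFunctionField k K) {x : E} (hgen : k⟮x⟯ = ⊤)
    (hM : IsFunctionField k₁ M) :
    ∃ C : ℤ, ∀ j : ℕ, (genus k₁ M + 1) ^ 2 < Nat.card k ^ j → Module.finrank k k₁ ∣ j →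
      ((Nat.card k : ℤ)) ^ (2 * j) - C * (Nat.card k : ℤ) ^ j ≤ (placeCount k K (2 * j) : ℤ) := by
  classical
  set r := Module.finrank k k₁ with hr
  have hr0 : 0 < r := Module.finrank_pos
  set q := Nat.card k
  haveI : Finite k₁ := Module.finite_of_finite k
  haveI : Algebra.IsSeparable E M := IsGalois.to_isSeparable
  haveI : FiniteDimensional K M := Module.Finite.of_restrictScalars_finite E K M
  haveI : IsGalois K M := IsGalois.tower_top_of_isGalois E K M
  have hFM : IsFF k M := IsFF.ext (K' := M) hE.1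
  obtain ⟨S, hS, hgood⟩ := finite_bad (K' := M) hE.1
  set g₁ := genus k₁ M
  set G₁ : Finset (M ≃ₐ[E] M) := Finset.univ.filter fun σ => ∀ c : k₁, σ (algebraMap k₁ M c) = algebraMap k₁ M c
  have hG₁ : ∀ σ, σ ∈ G₁ ↔ ∀ c : k₁, σ (algebraMap k₁ M c) = algebraMap k₁ M c := fun σ => by simp [G₁]
  -- `r·|G₁| ≤ |G|`
  have hG : r * G₁.card ≤ Module.finrank E M := by
    set E₁ := IntermediateField.adjoin E (Set.range (algebraMap k₁ M))
    have h1 : G₁.card ≤ Nat.card (IntermediateField.fixingSubgroup E₁) := by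
      rw [← Nat.card_eq_finsetCard]
      refine Nat.card_le_card_of_injective (fun σ => ⟨σ.1, fun y => ?_⟩) fun a b h => Subtype.ext (congrArg Subtype.val h :)
      have hle : E₁ ≤ IntermediateField.fixedField (Subgroup.zpowers σ.1) :=
        IntermediateField.adjoin_le_iff.mpr fun _ ⟨c, hc⟩ => by
          subst hc
          intro τ
          obtain ⟨i, hi⟩ := τ.2
          show τ.1 (algebraMap k₁ M c) = algebraMap k₁ M c
          have hmem : τ.1 ∈ MulAction.stabilizer (M ≃ₐ[E] M) (algebraMap k₁ M c) :=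
            (Subgroup.zpowers_le.mpr ((hG₁ σ.1).mp σ.2 c : σ.1 ∈ MulAction.stabilizer (M ≃ₐ[E] M) (algebraMap k₁ M c))) τ.2
          exact hmem
      exact hle y.2 ⟨σ.1, Subgroup.mem_zpowers _⟩
    rw [IsGalois.card_fixingSubgroup_eq_finrank] at h1
    calc r * G₁.card ≤ Module.finrank E E₁ * Module.finrank E₁ M :=
          Nat.mul_le_mul (finrank_le_adjoin_const hE.1 hgen) h1
      _ = _ := Module.finrank_mul_finrank E E₁ M
  let ι : (M ≃ₐ[K] M) → (M ≃ₐ[E] M) := fun σ => σ.restrictScalars E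
  set H₁ : Finset (M ≃ₐ[K] M) := Finset.univ.filter fun σ => ι σ ∈ G₁
  have hH : Module.finrank K M ≤ r * H₁.card := by
    have hres : ∀ σ : M ≃ₐ[K] M, ∃ f : k₁ →ₐ[k] k₁, ∀ c, algebraMap k₁ M (f c) = σ (algebraMap k₁ M c) := fun σ => by
      have hc : ∀ c, ∃ d, algebraMap k₁ M d = σ (algebraMap k₁ M c) := fun c =>
        hM.2 _ (IsAlgebraic.tower_top (K := k) k₁ (((Algebra.IsAlgebraic.isAlgebraic (R := k) c).algHom
          (IsScalarTower.toAlgHom k k₁ M)).algHom (σ.restrictScalars k).toAlgHom))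
      choose d hd using hc
      refine ⟨{ toFun := d, map_one' := ?_, map_mul' := ?_, map_zero' := ?_, map_add' := ?_, commutes' := ?_ }, hd⟩
      all_goals intros
      all_goals refine (algebraMap k₁ M).injective ?_
      all_goals simp only [hd, map_one, map_mul, map_zero, map_add, ← IsScalarTower.algebraMap_apply k k₁ M]
      rw [IsScalarTower.algebraMap_apply k K M, σ.commutes]
    choose res hres using hres
    rw [← IsGalois.card_aut_eq_finrank K M, Nat.card_eq_fintype_card, ← Finset.card_univ]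
    refine le_trans (Finset.card_le_mul_card_image (f := res) _ H₁.card fun f hf => ?_) ?_
    · obtain ⟨τ₀, -, hτ₀⟩ := Finset.mem_image.mp hf
      refine Finset.card_le_card_of_injOn (fun τ => τ₀⁻¹ * τ) (fun τ hτ => ?_) fun a _ b _ h => mul_left_cancel h
      rw [Finset.mem_coe, Finset.mem_filter] at hτ
      rw [Finset.mem_coe, Finset.mem_filter]
      refine ⟨Finset.mem_univ _, (hG₁ _).mpr fun c => ?_⟩
      show τ₀.symm (τ (algebraMap k₁ M c)) = _
      rw [← hres, hτ.2, ← hτ₀, hres, τ₀.symm_apply_apply]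
    · rw [mul_comm r]
      exact Nat.mul_le_mul_left _ ((Finset.card_le_univ _).trans AlgHom.card_le)
  set Cbad : ℤ := ∑ t ∈ hS.toFinset, (t.deg : ℤ)
  refine ⟨Module.finrank E M * (Cbad + 2 * g₁ + 1), fun j hj hrj => ?_⟩
  obtain ⟨N, rfl⟩ := hrj
  set n := 2 * (r * N)
  have hn : 0 < n := by
    rcases Nat.eq_zero_or_pos (r * N) with e | e
    · rw [e, pow_zero] at hj
      have : 1 ≤ (g₁ + 1) ^ 2 := Nat.one_le_pow _ _ (by omega)
      omega
    · omega
  have hq₁ : Nat.card k₁ = q ^ r := Module.natCard_eq_pow_finrank (K := k)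
  -- places over good places of degree dividing `n`
  set T₀ := (finite_deg_dvd hE.1 hn).toFinset
  have hT₀ : ∀ t, t ∈ T₀ ↔ t.deg ∣ n := fun t => (finite_deg_dvd hE.1 hn).mem_toFinset
  set T := T₀ \ hS.toFinset
  set U := T.biUnion fun t => (over_finite (K' := M) hE.1 t).toFinset
  have hU : ∀ Q, Q ∈ U ↔ ∃ t ∈ T, IsOver Q t := fun Q => by
    simp only [U, Finset.mem_biUnion]
    exact exists_congr fun t => and_congr_right fun _ => (over_finite (K' := M) hE.1 t).mem_toFinset
  have hFr : ∀ Q : Place k M, ∃ σ : M ≃ₐ[E] M, Q ∈ U → ∀ z : M, Q.1 z ≤ 1 → Q.1 (σ z - z ^ (q ^ n)) < 1 := fun Q => by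
    by_cases hQ : Q ∈ U
    · obtain ⟨t, ht, hQt⟩ := (hU Q).mp hQ
      obtain ⟨σ, hσ⟩ := exists_frobenius hE.1 hQt ((hT₀ t).mp (Finset.mem_sdiff.mp ht).1)
      exact ⟨σ, fun _ => hσ⟩
    · exact ⟨1, fun h => absurd h hQ⟩
  choose Fr hFr using hFr
  set B : ℤ := (q : ℤ) ^ n + (2 * g₁ + 1) * (q : ℤ) ^ (r * N) with hB
  -- fibre bound
  have hfib : ∀ σ, ((∑ Q ∈ U.filter (fun Q => Fr Q = σ), Q.deg : ℕ) : ℤ) ≤ if σ ∈ G₁ then (r : ℤ) * B else 0 := by
    intro σ
    split_ifs with hσ
    · let σ₁ : M ≃ₐ[k₁] M := AlgEquiv.ofRingEquiv (f := σ.toRingEquiv) ((hG₁ σ).mp hσ)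
      let e := (constEquiv k k₁ M).symm
      have h1 := twisted_bound hM (N := N) (by rw [hq₁, ← pow_mul]; exact hj) σ₁
        ((U.filter fun Q => Fr Q = σ).map e.toEmbedding) (fun P hP z hz => by
          obtain ⟨Q, hQ, rfl⟩ := Finset.mem_map.mp hP
          obtain ⟨hQU, hQσ⟩ := Finset.mem_filter.mp hQ
          have := hFr Q hQU z hz
          rw [hQσ] at this
          rw [hq₁, ← pow_mul, show r * (2 * N) = n by simp only [n]; ring]
          exact this)
      rw [Finset.sum_map, hq₁, ← pow_mul, ← pow_mul, show r * (2 * N) = n by simp only [n]; ring] at h1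
      have h2 : (∑ Q ∈ U.filter (fun Q => Fr Q = σ), Q.deg) = r * ∑ Q ∈ U.filter (fun Q => Fr Q = σ), (e.toEmbedding Q).deg := by
        rw [Finset.mul_sum]
        exact Finset.sum_congr rfl fun Q _ => constEquiv_symm_deg (k' := k₁) Q
      rw [h2, hB]; push_cast
      refine mul_le_mul_of_nonneg_left ?_ (by positivity)
      exact_mod_cast h1
    · rw [Finset.filter_eq_empty_iff.mpr, Finset.sum_empty, Nat.cast_zero]
      intro Q hQ hQσ
      refine hσ ((hG₁ σ).mpr fun c => ?_)
      have h1 := hFr Q hQ (algebraMap k₁ M c) (const_val_le_one Q c)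
      have hc : c ^ (q ^ n) = c := (forall_pow_card_iff (k := k) (L := k₁) n).mpr
        (Dvd.dvd.mul_left (dvd_mul_right r N) 2) c
      rw [hQσ, ← map_pow, hc] at h1
      have halg : IsAlgebraic k (σ (algebraMap k₁ M c) - algebraMap k₁ M c) :=
        (((Algebra.IsAlgebraic.isAlgebraic (R := k) c).algHom (IsScalarTower.toAlgHom k k₁ M)).algHom
          (σ.restrictScalars k).toAlgHom).sub ((Algebra.IsAlgebraic.isAlgebraic (R := k) c).algHom (IsScalarTower.toAlgHom k k₁ M))
      by_contra hne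
      exact transcendental_of_val_ne_one Q (sub_ne_zero.mpr hne) h1.ne halg
  -- the total
  have htot : (Module.finrank E M : ℤ) * ((q : ℤ) ^ n + 1 - Cbad) ≤ ((∑ Q ∈ U, Q.deg : ℕ) : ℤ) := by
    have h1 : ∑ Q ∈ U, Q.deg = ∑ t ∈ T, Module.finrank E M * t.deg := by
      rw [Finset.sum_biUnion fun t₁ _ t₂ _ hne => Finset.disjoint_left.mpr fun Q h1 h2 => hne ?_]
      · refine Finset.sum_congr rfl fun t ht => ?_
        rw [← sum_ram_deg hE.1 t _ fun Q => (over_finite (K' := M) hE.1 t).mem_toFinset]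
        refine Finset.sum_congr rfl fun Q hQ => ?_
        have hQ' : IsOver Q t := (over_finite (K' := M) hE.1 t).mem_toFinset.mp hQ
        rw [ramIdx_eq hE.1 (hgood t (fun h => (Finset.mem_sdiff.mp ht).2 (hS.mem_toFinset.mpr h)) Q hQ').1, one_mul]
      · obtain ⟨e1, h1⟩ := (over_finite (K' := M) hE.1 t₁).mem_toFinset.mp h1
        obtain ⟨e2, h2⟩ := (over_finite (K' := M) hE.1 t₂).mem_toFinset.mp h2
        exact (over_unique hE.1 h1 h2).1
    have h2 : (placeCount k E n : ℤ) = 1 + (q : ℤ) ^ n := by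
      obtain ⟨α, -, hα, -⟩ := exists_reciprocal_roots hE
      have h3 := placeCount_eq hE.1 α hα hn
      haveI : IsEmpty (Fin (2 * genus k E)) := by
        rw [(genus_eq_zero_of_adjoin hE hgen).1]; exact Fin.isEmpty
      rw [Finset.univ_eq_empty, Finset.sum_empty, sub_zero] at h3
      exact_mod_cast h3
    rw [placeCount_eq_sum hE.1 hn T₀ hT₀, Nat.cast_sum] at h2
    have h3 : (∑ t ∈ T₀, (t.deg : ℤ)) ≤ ∑ t ∈ T, (t.deg : ℤ) + Cbad := by
      rw [← Finset.sum_inter_add_sum_sdiff T₀ hS.toFinset (fun t => (t.deg : ℤ)), add_comm]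
      exact add_le_add le_rfl (Finset.sum_le_sum_of_subset_of_nonneg Finset.inter_subset_right fun _ _ _ => by positivity)
    rw [h1]; push_cast; rw [← Finset.mul_sum]
    exact mul_le_mul_of_nonneg_left (by linarith) (by positivity)
  have hsplit : ((∑ Q ∈ U, Q.deg : ℕ) : ℤ) = ∑ σ, ((∑ Q ∈ U.filter (fun Q => Fr Q = σ), Q.deg : ℕ) : ℤ) := by
    rw [← Nat.cast_sum]; congr 1
    exact (Finset.sum_fiberwise U Fr fun Q => Q.deg).symm
  set C₁ : ℤ := Cbad + 2 * g₁ + 1
  have hCbad : 0 ≤ Cbad := Finset.sum_nonneg fun _ _ => by positivity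
  have hq1 : (1 : ℤ) ≤ (q : ℤ) ^ (r * N) := one_le_pow₀ (by exact_mod_cast Nat.card_pos (α := k))
  set L : ℤ := (r : ℤ) * ((q : ℤ) ^ n - Module.finrank E M * C₁ * (q : ℤ) ^ (r * N))
  have hlow : ∀ σ ∈ G₁, L ≤ ((∑ Q ∈ U.filter (fun Q => Fr Q = σ), Q.deg : ℕ) : ℤ) := by
    intro σ hσ
    have h1 := htot.trans_eq hsplit
    rw [← Finset.add_sum_erase _ _ (Finset.mem_univ σ)] at h1
    have h2 := Finset.sum_le_sum (s := Finset.univ.erase σ) fun τ _ => hfib τ
    rw [← Finset.sum_filter, Finset.filter_mem_eq_inter, Finset.sum_const,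
      show Finset.univ.erase σ ∩ G₁ = G₁.erase σ by ext; simp [and_comm], Finset.card_erase_of_mem hσ,
      nsmul_eq_mul, Nat.cast_sub (Finset.card_pos.mpr ⟨σ, hσ⟩), Nat.cast_one] at h2
    have hG' : (r : ℤ) * G₁.card ≤ Module.finrank E M := by exact_mod_cast hG
    have hr1 : (1 : ℤ) ≤ r := by exact_mod_cast hr0
    have hc1 : (1 : ℤ) ≤ G₁.card := by exact_mod_cast Finset.card_pos.mpr ⟨σ, hσ⟩
    have hqn : (0 : ℤ) ≤ (q : ℤ) ^ n := by positivity
    set d : ℤ := (Module.finrank E M : ℤ)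
    set c : ℤ := (G₁.card : ℤ)
    set w : ℤ := (q : ℤ) ^ (r * N)
    set G : ℤ := 2 * (g₁ : ℤ) + 1 with hGdef
    have hd : (0 : ℤ) ≤ d := by positivity
    have hdc : c - 1 ≤ d := by nlinarith
    have e1 := mul_nonneg (sub_nonneg.mpr hG') hqn
    have e2 := mul_nonneg (mul_nonneg hd hCbad) (sub_nonneg.mpr (one_le_mul_of_one_le_of_one_le hr1 hq1))
    have e3 := mul_nonneg (mul_nonneg (mul_nonneg (by positivity : (0 : ℤ) ≤ G) (by linarith : (0 : ℤ) ≤ w))
      (by linarith : (0 : ℤ) ≤ (r : ℤ))) (sub_nonneg.mpr hdc)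
    have hC₁ : C₁ = Cbad + G := by simp only [C₁, G]; ring
    simp only [L, hC₁]
    simp only [hB] at h2
    linarith
  -- fixed places lie over rational places of `K`
  set SK := (finite_deg_dvd hK.1 hn).toFinset
  have hSK : ∀ P, P ∈ SK ↔ P.deg ∣ n := fun P => (finite_deg_dvd hK.1 hn).mem_toFinset
  have hup : (H₁.card : ℤ) * L ≤ Module.finrank K M * (placeCount k K n : ℤ) := by
    have hinj : Function.Injective ι := AlgEquiv.restrictScalars_injective E
    have h1 : (H₁.card : ℤ) * L ≤ ((∑ Q ∈ U.filter (fun Q => Fr Q ∈ H₁.image ι), Q.deg : ℕ) : ℤ) := by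
      have hsf := Finset.sum_fiberwise_of_maps_to (s := U.filter (fun Q => Fr Q ∈ H₁.image ι)) (t := H₁.image ι)
        (g := Fr) (fun Q hQ => (Finset.mem_filter.mp hQ).2) (fun Q => Q.deg)
      rw [← hsf, Nat.cast_sum]
      refine le_of_eq_of_le ?_ (Finset.card_nsmul_le_sum _ _ L fun σ hσ => ?_)
      · rw [Finset.card_image_of_injective _ hinj, nsmul_eq_mul]
      · obtain ⟨τ, hτ, rfl⟩ := Finset.mem_image.mp hσ
        refine (hlow _ (Finset.mem_filter.mp hτ).2).trans_eq ?_
        congr 1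
        refine Finset.sum_congr (Finset.ext fun Q => ?_) fun _ _ => rfl
        simp only [Finset.mem_filter]
        exact ⟨fun h => ⟨⟨h.1, h.2 ▸ hσ⟩, h.2⟩, fun h => ⟨h.1.1, h.2⟩⟩
    refine h1.trans ?_
    rw [placeCount_eq_sum hK.1 hn SK hSK, ← Nat.cast_mul, Finset.mul_sum]
    refine Nat.cast_le.mpr ((Finset.sum_le_sum_of_subset
      (t := SK.biUnion fun P => (over_finite (K' := M) hK.1 P).toFinset) ?_).trans ?_)
    · intro Q hQ
      obtain ⟨hQU, hQH⟩ := Finset.mem_filter.mp hQ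
      obtain ⟨τ, -, hτ⟩ := Finset.mem_image.mp hQH
      obtain ⟨P, e, he1, he⟩ := exists_over hK.1 Q
      refine Finset.mem_biUnion.mpr ⟨P, (hSK P).mpr ((deg_dvd_iff hK.1 P n).mpr fun z hz => ?_),
        (over_finite (K' := M) hK.1 P).mem_toFinset.mpr ⟨e, he⟩⟩
      have := hFr Q hQU (algebraMap K M z) (by rw [he]; exact pow_le_one' hz e)
      rw [← hτ, show ι τ (algebraMap K M z) = algebraMap K M z from τ.commutes z, Valuation.map_sub_swap,
        ← map_pow, ← map_sub, he] at this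
      exact (pow_lt_one_iff (by omega)).mp this
    · rw [Finset.sum_biUnion fun P₁ _ P₂ _ hne => Finset.disjoint_left.mpr fun Q h1 h2 => hne ?_]
      swap
      · obtain ⟨e1, h1⟩ := (over_finite (K' := M) hK.1 P₁).mem_toFinset.mp h1
        obtain ⟨e2, h2⟩ := (over_finite (K' := M) hK.1 P₂).mem_toFinset.mp h2
        exact (over_unique hK.1 h1 h2).1
      refine Finset.sum_le_sum fun P _ => ?_
      rw [← sum_ram_deg hK.1 P _ fun Q => (over_finite (K' := M) hK.1 P).mem_toFinset]
      refine Finset.sum_le_sum fun Q hQ => Nat.le_mul_of_pos_left _ ?_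
      obtain ⟨e, he⟩ := (over_finite (K' := M) hK.1 P).mem_toFinset.mp hQ
      rw [ramIdx_eq hK.1 he]; exact over_pos hK.1 he
  have hH' : (Module.finrank K M : ℤ) ≤ r * H₁.card := by exact_mod_cast hH
  have hH0 : (0 : ℤ) < H₁.card := by
    rcases Nat.eq_zero_or_pos H₁.card with e | e
    · rw [e, mul_zero] at hH
      exact absurd hH (Module.finrank_pos (R := K) (M := M)).not_ge
    · exact_mod_cast e
  have hfin : L ≤ (r : ℤ) * placeCount k K n := by
    refine le_of_mul_le_mul_left (hup.trans ?_) hH0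
    rw [← mul_assoc, mul_comm (H₁.card : ℤ)]
    exact mul_le_mul_of_nonneg_right hH' (by positivity)
  have hr1 : (0 : ℤ) < r := by exact_mod_cast hr0
  exact le_of_mul_le_mul_left hfin hr1

end Count

end Groth.Agent.FFLib
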