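import Groth.Agent.FFLib.Weil.ConstPlaces
import Groth.Agent.FFLib.Plucker
import Groth.Agent.FFLib.Geometric
import Groth.Agent.FFLib.Schmidt
import Mathlib.FieldTheory.PrimitiveElement

/-! Independence of small Riemann–Roch spaces over Frobenius powers. -/

set_option linter.unusedSectionVars false
set_option linter.style.haveILetI false

namespace Groth.Agent.FFLib

open FunFld WithZero
open scoped TensorProduct

section Aux

variable {k K k' K' : Type*} [Field k] [Finite k] [Field K] [Field k'] [Field K']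
  [Algebra k k'] [FiniteDimensional k k'] [Algebra k K] [Algebra K K'] [Algebra k' K'] [Algebra k K']
  [IsScalarTower k k' K'] [IsScalarTower k K K']
  (h : Function.Bijective (Algebra.TensorProduct.productMap
    (IsScalarTower.toAlgHom k k' K') (IsScalarTower.toAlgHom k K K')))

include h

theorem linearIndependent_constExt {ι : Type*} [Fintype ι] {a : ι → K} (hli : LinearIndependent k a) :
    LinearIndependent k' fun i => algebraMap K K' (a i) := by
  obtain ⟨vK, hvK⟩ := exists_const_basis (K := K) h (Module.finBasis k k')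
  set v := Module.finBasis k k'
  rw [Fintype.linearIndependent_iff] at hli ⊢
  intro l hl i
  have hl0 : ∑ j, (∑ i, v.repr (l i) j • a i) • vK j = 0 := by
    refine Eq.trans ?_ hl
    simp only [Finset.sum_smul]
    rw [Finset.sum_comm]
    refine Finset.sum_congr rfl fun i _ => ?_
    conv_rhs => rw [← v.sum_repr (l i), Finset.sum_smul]
    refine Finset.sum_congr rfl fun j _ => ?_
    simp only [Algebra.smul_def, hvK, map_mul, ← IsScalarTower.algebraMap_apply]
    ring
  have h1 := fun j => hli (fun i => v.repr (l i) j) (Fintype.linearIndependent_iff.mp vK.linearIndependent _ hl0 j) i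
  refine v.repr.injective (Finsupp.ext fun j => ?_)
  rw [h1 j, map_zero, Finsupp.zero_apply]

theorem pow_indep_aux (hF : IsFF k K) (P : Place k K) (hP : P.deg = Module.finrank k k')
    {D : Divisor k K} {N : ℕ} (hD : D.deg < ((Nat.card k ^ N : ℕ) : ℤ)) {ι : Type*} [Fintype ι]
    {a : ι → K} (ha : ∀ i, a i ∈ L D) (hli : LinearIndependent k a) {c : ι → K}
    (hc : ∑ i, a i * c i ^ (Nat.card k ^ N) = 0) : c = 0 := by
  classical
  haveI := (finite_constExt h).1
  set M := Nat.card k ^ N
  have hM : 0 < M := Nat.pos_of_ne_zero (pow_ne_zero _ Nat.card_pos.ne')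
  have hFk : IsFF k K' := hF.ext
  have hF' : IsFF k' K' := isFF_const hFk
  obtain ⟨Q, hQ1, hQ⟩ := exists_rational_over h hF P hP
  let D' : Divisor k' K' := Finsupp.equivMapDomain (constEquiv k k' K').symm (conorm K' D)
  have hn : 0 < Module.finrank k k' := Module.finrank_pos
  have hD' : D'.deg = D.deg := by
    have h1 := deg_equivMapDomain (k' := k') (conorm K' D)
    rw [deg_conorm hF, (finite_constExt h).2] at h1
    exact (mul_left_cancel₀ (by omega : (Module.finrank k k' : ℤ) ≠ 0) h1).symm
  have hmem : ∀ i, algebraMap K K' (a i) ∈ L D' := fun i R => by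
    obtain ⟨P', e, -, he⟩ := exists_over hF (constEquiv k k' K' R)
    show (constEquiv k k' K' R).1 _ ≤ _
    rw [he, Finsupp.equivMapDomain_apply, Equiv.symm_symm, conorm_apply hF _ he]
    refine (pow_le_pow_left' (ha i P') e).trans_eq ?_
    rw [← exp_nsmul, nsmul_eq_mul]
  by_contra hne
  obtain ⟨i₁, hi₁⟩ := Function.ne_iff.mp hne
  obtain ⟨i₀, -, hmax⟩ := Finset.exists_max_image Finset.univ (fun i => Q.1 (algebraMap K K' (c i)))
    ⟨i₁, Finset.mem_univ _⟩
  have hc0 : algebraMap K K' (c i₀) ≠ 0 := fun e => by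
    have := hmax i₁ (Finset.mem_univ _)
    rw [e, map_zero, le_zero_iff] at this
    exact hi₁ (by simpa using this)
  let b : ι → K' := fun i => algebraMap K K' (c i) / algebraMap K K' (c i₀)
  have hb : ∀ i, Q.1 (b i) ≤ 1 := fun i => by
    simp only [b]
    rw [map_div₀, div_le_one₀ (zero_lt_iff.mpr (val_ne_zero Q hc0))]
    exact hmax i (Finset.mem_univ i)
  choose γ hγ using fun i => exists_value hF' hQ1 (hb i)
  obtain ⟨φ, hφ⟩ := exists_frobHom k K' N
  have hrel : ∑ i, algebraMap K K' (a i) * b i ^ M = 0 := by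
    have := congrArg (algebraMap K K') hc
    simp only [map_sum, map_mul, map_pow, map_zero] at this
    refine Eq.trans ?_ ((congrArg (· / algebraMap K K' (c i₀) ^ M) this).trans (zero_div _))
    rw [Finset.sum_div]
    refine Finset.sum_congr rfl fun i _ => ?_
    simp only [b, div_pow]; ring
  set v := ∑ i, (γ i ^ M) • algebraMap K K' (a i)
  have hv : v = -∑ i, algebraMap K K' (a i) * (b i - algebraMap k' K' (γ i)) ^ M := by
    rw [eq_neg_iff_add_eq_zero, ← Finset.sum_add_distrib, ← hrel]
    refine Finset.sum_congr rfl fun i _ => ?_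
    rw [sub_pow_card, Algebra.smul_def, map_pow]; ring
  have hvmem : v ∈ L (D' - Finsupp.single Q (M : ℤ)) := by
    intro R
    rcases eq_or_ne R Q with rfl | hR
    · rw [Finsupp.sub_apply, Finsupp.single_eq_same, hv, Valuation.map_neg]
      refine Valuation.map_sum_le _ fun i _ => ?_
      rw [map_mul, map_pow, sub_eq_add_neg (D' R), exp_add]
      refine mul_le_mul' (hmem i R) ((pow_le_pow_left' ((le_exp_neg_one_iff R).mpr (hγ i)) M).trans_eq ?_)
      rw [← exp_nsmul, nsmul_eq_mul, mul_neg_one]
    · rw [Finsupp.sub_apply, Finsupp.single_eq_of_ne hR, sub_zero]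
      exact (L D').sum_mem (fun i _ => (L D').smul_mem _ (hmem i)) R
  have hneg : (D' - Finsupp.single Q (M : ℤ)).deg < 0 := by
    rw [Divisor.deg_sub, Divisor.deg_single, hD', hQ1]
    simpa using hD
  have hv0 : v = 0 := by
    haveI := L_finite hF' (D' - Finsupp.single Q (M : ℤ))
    have h0 : Subsingleton (L (D' - Finsupp.single Q (M : ℤ))) :=
      Module.finrank_zero_iff.mp (ell_eq_zero_of_deg_neg hF' hneg)
    exact congrArg Subtype.val (Subsingleton.elim (⟨v, hvmem⟩ : L (D' - Finsupp.single Q (M : ℤ))) 0)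
  have hγ0 := Fintype.linearIndependent_iff.mp (linearIndependent_constExt h hli) _ hv0 i₀
  have hγi := hγ i₀
  rw [eq_zero_of_pow_eq_zero hγ0, map_zero, sub_zero] at hγi
  simp only [b, div_self hc0, map_one] at hγi
  exact lt_irrefl _ hγi

end Aux

section Main

universe u v
variable {k : Type u} {K : Type v} [Field k] [Finite k] [Field K] [Algebra k K]

theorem exists_irreducible_of_field (κ : Type*) [Field κ] [Algebra k κ] (hfin : FiniteDimensional k κ) :
    ∃ g : Polynomial k, Irreducible g ∧ g.natDegree = Module.finrank k κ := by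
  haveI := hfin
  haveI : Algebra.IsSeparable k κ := Algebra.IsAlgebraic.isSeparable_of_perfectField
  exact ⟨minpoly k (Field.powerBasisOfFiniteOfSeparable k κ).gen,
    minpoly.irreducible (IsIntegral.of_finite _ _), by
      rw [PowerBasis.natDegree_minpoly, ← PowerBasis.finrank]⟩

/-- A finite extension of given degree. -/
theorem exists_extension_deg (hF : IsFF k K) (P : Place k K) :
    ∃ g : Polynomial k, Irreducible g ∧ g.natDegree = P.deg :=
  exists_irreducible_of_field (Res P) (residue_finite hF P)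

/-- `k`-independent elements of `L(D)` are independent over `K^(q^N)` when `deg D < q^N`. -/
theorem pow_indep (hK : IsFunctionField k K) {D : Divisor k K} {N : ℕ}
    (hD : D.deg < ((Nat.card k ^ N : ℕ) : ℤ)) {ι : Type*} [Fintype ι] {a : ι → K} (ha : ∀ i, a i ∈ L D)
    (hli : LinearIndependent k a) {c : ι → K} (hc : ∑ i, a i * c i ^ (Nat.card k ^ N) = 0) : c = 0 := by
  obtain ⟨P⟩ := exists_place hK.1
  obtain ⟨g, hg, hdeg⟩ := exists_extension_deg hK.1 P
  haveI := Fact.mk hg
  haveI : FiniteDimensional k (AdjoinRoot g) := (AdjoinRoot.powerBasis hg.ne_zero).finite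
  haveI : Algebra.IsSeparable k (AdjoinRoot g) := Algebra.IsAlgebraic.isSeparable_of_perfectField
  letI : Field (AdjoinRoot g ⊗[k] K) := (isField_tensor_of_isSeparable hK (AdjoinRoot g)).toField
  letI : Algebra K (AdjoinRoot g ⊗[k] K) := Algebra.TensorProduct.rightAlgebra
  haveI : IsScalarTower k K (AdjoinRoot g ⊗[k] K) := IsScalarTower.of_algebraMap_eq fun r => by
    show algebraMap k (AdjoinRoot g ⊗[k] K) r = 1 ⊗ₜ algebraMap k K r
    rw [Algebra.TensorProduct.algebraMap_apply, Algebra.algebraMap_eq_smul_one, Algebra.algebraMap_eq_smul_one,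
      TensorProduct.smul_tmul]
  refine pow_indep_aux (k' := AdjoinRoot g) (K' := AdjoinRoot g ⊗[k] K) ?_ hK.1 P ?_ hD ha hli hc
  · have : (Algebra.TensorProduct.productMap (IsScalarTower.toAlgHom k (AdjoinRoot g) (AdjoinRoot g ⊗[k] K))
        (IsScalarTower.toAlgHom k K (AdjoinRoot g ⊗[k] K))) = AlgHom.id k (AdjoinRoot g ⊗[k] K) := by
      refine Algebra.TensorProduct.ext' fun x y => ?_
      show (x ⊗ₜ[k] (1 : K)) * ((1 : AdjoinRoot g) ⊗ₜ[k] y) = x ⊗ₜ y
      rw [Algebra.TensorProduct.tmul_mul_tmul, mul_one, one_mul]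
    rw [this]
    exact Function.bijective_id
  · rw [(AdjoinRoot.powerBasis hg.ne_zero).finrank, AdjoinRoot.powerBasis_dim, hdeg]

end Main

end Groth.Agent.FFLib
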