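import Groth.Agent.FFLib.Weil.ConstPlaces

/-! The numerator of a constant extension. -/

set_option linter.unusedSectionVars false
set_option linter.style.haveILetI false

namespace Groth.Agent.FFLib

open FunFld

theorem eq_of_theta {R : Type*} [Field R] [CharZero R] {G f g : PowerSeries R}
    (hG : PowerSeries.coeff 0 G = 0) (h0 : PowerSeries.coeff 0 f = PowerSeries.coeff 0 g)
    (hf : theta f = G * f) (hg : theta g = G * g) : f = g := by
  ext n
  induction n using Nat.strong_induction_on with
  | _ n ih =>
    rcases n with _ | n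
    · exact h0
    have key : ∀ u : PowerSeries R, theta u = G * u → ((n + 1 : ℕ) : R) * PowerSeries.coeff (n + 1) u =
        ∑ p ∈ Finset.HasAntidiagonal.antidiagonal (n + 1), PowerSeries.coeff p.1 G * PowerSeries.coeff p.2 u := fun u hu => by
      rw [← coeff_theta, hu, PowerSeries.coeff_mul]
    have hsum : ∑ p ∈ Finset.HasAntidiagonal.antidiagonal (n + 1), PowerSeries.coeff p.1 G * PowerSeries.coeff p.2 f =
        ∑ p ∈ Finset.HasAntidiagonal.antidiagonal (n + 1), PowerSeries.coeff p.1 G * PowerSeries.coeff p.2 g := by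
      refine Finset.sum_congr rfl fun p hp => ?_
      rcases Nat.eq_zero_or_pos p.1 with e | e
      · rw [e, hG, zero_mul, zero_mul]
      · rw [Finset.HasAntidiagonal.mem_antidiagonal] at hp
        rw [ih p.2 (by omega)]
    have := (key f hf).trans (hsum.trans (key g hg).symm)
    exact mul_left_cancel₀ (Nat.cast_ne_zero.mpr n.succ_ne_zero) this

variable {k K : Type*} [Field k] [Field K] [Algebra k K]

/-- The numerator is determined by the point counts. -/
theorem numerZ_eq_prod [Finite k] (hF : IsFF k K) {ι : Type*} [Fintype ι] (β : ι → ℂ)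
    (h : ∀ m, 1 ≤ m → (placeCount k K m : ℂ) = 1 + (Nat.card k : ℂ) ^ m - ∑ i, β i ^ m) :
    PowerSeries.map (Int.castRingHom ℂ) (numerZ k K) =
      ((∏ i, (1 - Polynomial.C (β i) * Polynomial.X) : Polynomial ℂ) : PowerSeries ℂ) := by
  classical
  set q : ℂ := (Nat.card k : ℂ)
  set A := PowerSeries.map (Int.castRingHom ℂ) (zetaZ k K)
  set W : PowerSeries ℂ := PowerSeries.mk fun m => if m = 0 then 0 else (placeCount k K m : ℂ)
  set P : PowerSeries ℂ := ∏ i, (1 - PowerSeries.C (β i) * PowerSeries.X)
  have hP : ((∏ i, (1 - Polynomial.C (β i) * Polynomial.X) : Polynomial ℂ) : PowerSeries ℂ) = P := by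
    rw [← Polynomial.coeToPowerSeries.ringHom_apply, map_prod]
    exact Finset.prod_congr rfl fun i _ => by simp
  have hW : theta A = W * A := by
    ext m
    rw [coeff_theta, PowerSeries.coeff_mul, PowerSeries.coeff_map, zetaZ, PowerSeries.coeff_mk]
    have h := congrArg (Nat.cast : ℕ → ℂ) (mul_effDivCount (k := k) (K := K) hF m)
    push_cast at h
    rw [show (Int.castRingHom ℂ) (effDivCount k K m : ℤ) = (effDivCount k K m : ℂ) by simp, h,
      Finset.Nat.sum_antidiagonal_eq_sum_range_succ_mk]
    refine Finset.sum_subset_zero_on_sdiff (fun x hx => by simp only [Finset.mem_range, Finset.mem_Icc] at hx ⊢; omega)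
      (fun x hx => ?_) (fun x hx => ?_)
    · simp only [Finset.mem_sdiff, Finset.mem_range, Finset.mem_Icc] at hx
      have : x = 0 := by omega
      simp [W, this]
    · rw [Finset.mem_Icc] at hx
      simp only [A, W, PowerSeries.coeff_mk, PowerSeries.coeff_map, zetaZ, if_neg (show x ≠ 0 by omega)]
      simp
  set L := PowerSeries.map (Int.castRingHom ℂ) (numerZ k K)
  have hL : L = (1 - PowerSeries.C (1 : ℂ) * PowerSeries.X) * (1 - PowerSeries.C q * PowerSeries.X) * A := by
    simp [L, numerZ, A, q]
  have h1 : theta L = (W - geomSer 1 - geomSer q) * L := by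
    rw [hL, theta_mul, theta_mul, theta_linear, theta_linear, hW]; ring
  have hG : W - geomSer 1 - geomSer q = -∑ i, geomSer (β i) := by
    ext m
    simp only [map_sub, map_neg, map_sum, W, geomSer, PowerSeries.coeff_mk]
    rcases Nat.eq_zero_or_pos m with e | e
    · simp [e]
    · simp only [if_neg e.ne', one_pow]; rw [h m e]; ring
  rw [hP]
  refine eq_of_theta (G := -∑ i, geomSer (β i)) ?_ ?_ (hG ▸ h1) (theta_prod _ _)
  · simp [geomSer]
  · rw [PowerSeries.coeff_map, constantCoeff_numerZ hF]
    simp [P, map_prod]

variable {k' K' : Type*} [Field k'] [Field K'] [Algebra k k'] [FiniteDimensional k k'] [Algebra K K'] [Algebra k' K']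

/-- Point counts of an abstract constant extension. -/
theorem placeCount_isConstExt [Finite k] (hF : IsFF k K) (hce : IsConstExt k K k' K') {m : ℕ} (hm : 0 < m) :
    placeCount k' K' m = placeCount k K (Module.finrank k k' * m) := by
  letI : Algebra k K' := ((algebraMap k' K').comp (algebraMap k k')).toAlgebra
  haveI : IsScalarTower k k' K' := IsScalarTower.of_algebraMap_eq fun _ => rfl
  haveI : IsScalarTower k K K' := IsScalarTower.of_algebraMap_eq fun c => (hce.1 c).symm
  exact placeCount_constExt (bijective_of_isConstExt hce) hF hm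

end Groth.Agent.FFLib
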